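import Mathlib
import Cfsg.Agent.Lib.B7S.Bas2

/-! Case `S`: the group `D₈ ≀ 2`. -/

set_option autoImplicit false

namespace H60M.A7

open Subgroup H69 H36.SW

variable {G : Type*} [Group G] [Finite G]

namespace SA

local notation:70 g:71 " ▷ " x:70 => MulAut.conj g x

section
omit [Finite G]
variable {g h x y : G}
theorem cm (g h x : G) : (g * h) ▷ x = g ▷ h ▷ x := by rw [map_mul, MulAut.mul_apply]
theorem ci (e : g ▷ x = y) : g⁻¹ ▷ y = x := by rw [← e, ← cm, inv_mul_cancel, map_one, MulAut.one_apply]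
theorem cc (e : g * x = x * g) : g ▷ x = x := mul_inv_eq_of_eq_mul e
theorem cc' (e : g ▷ x = x) : g * x = x * g := mul_inv_eq_iff_eq_mul.1 e
theorem sqm (g x : G) : g * x * (g * x) = (g ▷ x) * (g * g) * x := by rw [MulAut.conj_apply]; group

theorem sq2 {P O : Subgroup G} (hP : IsPGroup 2 P) (hO : ∀ o ∈ O, Odd (orderOf o)) {a o : G} (ha : a ∈ P) (hn : a ∈ 𝐍(O))
    (ho : o ∈ O) (h : a * o * (a * o) ∈ P) : a * o * (a * o) = a * a := by
  rw [show a * o * (a * o) = a * a * (a⁻¹ * o * a * o) by group] at h ⊢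
  rw [mul_mem_cancel_left (mul_mem ha ha)] at h
  rw [(P2.of_mem hP h).eq_one (hO _ (mul_mem (conj_mem_of_mem_normalizer' hn ho) ho)), mul_one]
end

theorem adj {W P : Subgroup G} (hW : ∀ x ∈ W, x * x = 1) (hP : P ≤ W) {x y : G} (hx : x ∈ W) (h : y ∈ P ⊔ zpowers x) :
    y ∈ P ∨ y * x ∈ P := by
  rwa [mem_adj (centralizer_le_normalizer _ fun a ha => comm_of_sq hW (hP ha) hx) (by rw [hW x hx]; exact one_mem _),
    inv_eq_of_mul_eq_one_left (hW x hx)] at h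

theorem fix2 {W : Subgroup G} (hW : ∀ x ∈ W, x * x = 1) {a b c d k w : G} (ha : a ∈ W) (hb : b ∈ W) (hc : c ∈ W) (hd : d ∈ W)
    (gen : W ≤ closure {a, b, c, d}) (e1 : k ▷ a = b) (e2 : k ▷ b = a) (e3 : k ▷ c = d) (e4 : k ▷ d = c) (n1 : a ≠ b)
    (n2 : c ≠ d) (n3 : a * c ≠ b * d) (hw : w ∈ W) (e : k ▷ w = w) :
    w = 1 ∨ w = a * b ∨ w = c * d ∨ w = a * b * (c * d) := by
  have p := mul_mem ha hb
  have q := mul_mem hc hd
  have l1 : ⊥ ⊔ zpowers (a * b) ≤ W := sup_le bot_le (zpowers_le.2 p)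
  have l2 := sup_le l1 (zpowers_le.2 q)
  have f : ∀ x ∈ ⊥ ⊔ zpowers (a * b) ⊔ zpowers (c * d), k ▷ x = x := fun x hx => cc (mem_centralizer_singleton_iff.1
    (sup_le (sup_le bot_le (zpowers_le.2 (mem_centralizer_singleton_iff.2 (cc' (by
      rw [map_mul, e1, e2, comm_of_sq hW ha hb])).symm))) (zpowers_le.2 (mem_centralizer_singleton_iff.2 (cc' (by
      rw [map_mul, e3, e4, comm_of_sq hW hc hd])).symm)) hx)).symm
  have m : w ∈ ⊥ ⊔ zpowers (a * b) ⊔ zpowers (c * d) ⊔ zpowers a ⊔ zpowers c := (closure_le _).2 (by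
    have ma := mem_sup_left (T := zpowers c) (mem_sup_right (S := ⊥ ⊔ zpowers (a * b) ⊔ zpowers (c * d)) (mem_zpowers a))
    have mc := mem_sup_right (S := ⊥ ⊔ zpowers (a * b) ⊔ zpowers (c * d) ⊔ zpowers a) (mem_zpowers c)
    rintro _ (rfl | rfl | rfl | rfl)
    exacts [ma, (mul_mem_cancel_left ma).1 (mem_sup_left (mem_sup_left (mem_sup_left (mem_sup_right (mem_zpowers _))))), mc,
      (mul_mem_cancel_left mc).1 (mem_sup_left (mem_sup_left (mem_sup_right (mem_zpowers _))))]) (gen hw)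
  have i : ∀ {x y}, y ∈ W → x * y ∈ (⊥ : Subgroup G) → x = y := fun hy h =>
    (eq_inv_of_mul_eq_one_left (mem_bot.1 h)).trans (inv_eq_of_mul_eq_one_left (hW _ hy))
  rcases adj hW (sup_le l2 (zpowers_le.2 ha)) hc m with m | m <;> rcases adj hW l2 ha m with m | m
  · rcases adj hW l1 q m with m | m <;> rcases adj hW bot_le p m with m | m
    exacts [.inl (mem_bot.1 m), .inr (.inl (i p m)), .inr (.inr (.inl (i q m))),
      .inr (.inr (.inr (by rw [← i p m, mul_assoc, hW _ q, mul_one])))]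
  · exact (n1 (by simpa only [map_mul, e, e1, mul_right_inj, eq_comm] using f _ m)).elim
  · exact (n2 (by simpa only [map_mul, e, e3, mul_right_inj, eq_comm] using f _ m)).elim
  · have := f _ m
    rw [map_mul, map_mul, e, e1, e3, mul_assoc, mul_assoc, mul_right_inj] at this
    exact (n3 (by rw [comm_of_sq hW ha hc, ← this, comm_of_sq hW hd hb])).elim

variable {F : Fr G} {g h k a b c d w : G}

local notation "s₁" => F.u1 * F.v2
local notation "s₂" => F.u1 * F.v2 * F.z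

theorem sqW : ∀ x ∈ F.W2, x * x = 1 := fun _ => F.sw.sqW1
theorem cW (ha : a ∈ F.W2) (hb : b ∈ F.W2) : a * b = b * a := comm_of_sq sqW ha hb
theorem XW : F.X2 ≤ F.W2 := F.sw.X1W1
theorem WT : F.W2 ≤ F.T := F.sw_T ▸ F.sw.W1T
theorem TN : F.T ≤ 𝐍(F.W2) := F.sw_T ▸ F.sw.TN1
theorem WC : F.W2 ≤ 𝐂(F.W2) := fun _ ha _ hb => cW hb ha
theorem p2W (h : a ∈ 𝐂(F.W2)) (h2 : P2 a) : a ∈ F.W2 := F.sw.p2W1 h h2
theorem uX : F.u1 ∈ F.X2 := F.sw.u2X1
omit [Finite G] in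
theorem zX : F.z ∈ F.X2 := subset_closure (by simp)
omit [Finite G] in
theorem vX : F.v2 ∈ F.X2 := subset_closure (by simp)
omit [Finite G] in
theorem tW : F.t ∈ F.W2 := subset_closure (by simp)
omit [Finite G] in
theorem vT : F.v1 ∈ F.T := subset_closure (by simp)
theorem sX : s₁ ∈ F.X2 := mul_mem uX vX
theorem sX' : s₂ ∈ F.X2 := mul_mem sX zX
theorem tn (ha : a ∈ F.X2) : F.t ≠ a := fun e => F.sw.tX1 (show F.t ∈ F.X2 from e ▸ ha)
theorem tn' (ha : a ∈ F.X2) (hb : b ∈ F.X2) : F.t * a ≠ b := fun e =>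
  tn (mul_mem hb (inv_mem ha)) (eq_mul_inv_of_mul_eq e)
theorem ss : s₁ * s₂ = F.z := by rw [← mul_assoc, sqW _ (XW sX), one_mul]

theorem gen (u1 : F.u1 ≠ 1) : F.W2 ≤ closure {F.t, F.u1, s₁, s₂} := (closure_le _).2 (by
  have m1 : F.u1 ∈ closure {F.t, F.u1, s₁, s₂} := subset_closure (by simp)
  have m2 : s₁ ∈ closure {F.t, F.u1, s₁, s₂} := subset_closure (by simp)
  have m3 : F.z ∈ closure {F.t, F.u1, s₁, s₂} := (mul_mem_cancel_left m2).1 (subset_closure (by simp))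
  rintro _ (rfl | rfl | rfl | rfl)
  exacts [subset_closure (by simp), m3, (mul_mem_cancel_left m1).1 m2, F.u2_eq u1 ▸ mul_mem m3 m1])

/-- the action of `g` on the four elements of `Ω ∩ W2` -/
structure Ac (F : Fr G) (g a b c d : G) : Prop where
  t : g ▷ F.t = a
  u : g ▷ F.u1 = b
  s : g ▷ (F.u1 * F.v2) = c
  s' : g ▷ (F.u1 * F.v2 * F.z) = d

theorem Ac.same (u1 : F.u1 ≠ 1) (A : Ac F g a b c d) (B : Ac F h a b c d) : h⁻¹ * g ∈ 𝐂(F.W2) := fun x hx =>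
  mem_centralizer_singleton_iff.1 (((closure_le (centralizer {h⁻¹ * g})).2 (by
    rintro _ (rfl | rfl | rfl | rfl) <;> refine mem_centralizer_singleton_iff.2 (cc' ?_).symm <;> rw [cm]
    exacts [A.t ▸ ci B.t, A.u ▸ ci B.u, A.s ▸ ci B.s, A.s' ▸ ci B.s'])) (gen u1 hx))

theorem Ac.mulC (A : Ac F g a b c d) (hk : k ∈ 𝐂(F.W2)) : Ac F (g * k) a b c d :=
  ⟨by rw [cm, cc (hk _ tW).symm, A.t], by rw [cm, cc (hk _ (XW uX)).symm, A.u], by rw [cm, cc (hk _ (XW sX)).symm, A.s],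
    by rw [cm, cc (hk _ (XW sX')).symm, A.s']⟩

theorem Ac.odd (A : Ac F g a b c d) (h : g * g ∈ 𝐂(F.W2)) : ∃ m : ℕ, P2 (g ^ m) ∧ g ^ m * g ^ m ∈ F.W2 ∧ Ac F (g ^ m) a b c d := by
  obtain ⟨_, ⟨m, rfl⟩, h2⟩ := exists_odd_P2 g
  refine ⟨_, h2, p2W ?_ (h2.mul h2 rfl), ?_⟩
  · rw [← (Commute.refl g).mul_pow]; exact pow_mem h _
  · rw [pow_succ', pow_mul, sq]; exact A.mulC (pow_mem h m)

theorem av : Ac F F.v1 F.t F.u1 s₂ s₁ := by
  have e : F.v1 ▷ s₁ = s₂ := by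
    rw [map_mul, cc F.u1v1.symm, MulAut.conj_apply, inv_eq_of_mul_eq_one_left F.v11, F.v121, cW (XW zX) (XW vX), mul_assoc]
  exact ⟨cc F.tv1.symm, cc F.u1v1.symm, e, by rw [map_mul, e, cc F.zv1.symm, mul_assoc, F.zz, mul_one]⟩

theorem ay (u1 : F.u1 ≠ 1) : Ac F F.y2 F.t s₂ F.u1 s₁ := by
  have e : F.y2 ▷ F.u1 = s₂ := by
    have : F.y2 ▷ (F.z * F.u2) = F.v2 * F.u2 := by rw [map_mul, cc F.y2u]; exact congrArg (· * F.u2) F.y2z
    rwa [F.u2_eq u1, ← mul_assoc, F.zz, one_mul, ← mul_assoc, cW (XW (mul_mem vX zX)) (XW uX), ← mul_assoc] at this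
  have e' : F.y2 ▷ s₁ = F.u1 := by
    rw [map_mul, e, show F.y2 ▷ F.v2 = _ from F.y2v, mul_assoc, ← mul_assoc F.z, F.zz, one_mul, mul_assoc, F.v22, mul_one]
  exact ⟨cc F.y2t, e, e', by rw [map_mul, e']; exact congrArg (F.u1 * ·) F.y2z⟩

theorem fx (u1 : F.u1 ≠ 1) (A : Ac F g F.u1 F.t s₂ s₁) (hw : w ∈ F.W2) (e : g ▷ w = w) :
    w = 1 ∨ w = F.t * F.u1 ∨ w = F.z ∨ w = F.t * F.u1 * F.z :=
  ss (F := F) ▸ fix2 sqW tW (XW uX) (XW sX) (XW sX') (gen u1) A.t A.u A.s A.s' (tn uX) (by simpa using F.z1)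
    (tn' sX (mul_mem uX sX')) hw e

theorem Ac.σv (A : Ac F g F.u1 F.t s₁ s₂) : Ac F (g * F.v1) F.u1 F.t s₂ s₁ :=
  ⟨by rw [cm, av.t, A.t], by rw [cm, av.u, A.u], by rw [cm, av.s, A.s'], by rw [cm, av.s', A.s]⟩

theorem exists_σ (c : F.CS) : ∃ σ ∈ 𝐍(F.T), Ac F σ F.u1 F.t s₁ s₂ ∧ σ ▷ F.v1 = F.v1 ∧ (σ * σ = 1 ∨ σ * σ = F.z) := by
  have uW : F.u1 ∈ F.W1 := subset_closure (by simp)
  obtain ⟨σ, hσ, A⟩ : ∃ σ ∈ 𝐍(F.T), Ac F σ F.u1 F.t s₁ s₂ := by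
    obtain ⟨σ, hσ, e⟩ := F.burn c.o1 (subset_closure (by simp))
    have i := (MulAut.conj σ).injective
    have eu : σ ▷ F.u1 = F.t := ((c.omW1 (conj_mem_of_mem_normalizer (c.ns hσ).1 uW)).1 (c.o1.cj σ)).resolve_right
      fun k => tn uX (i (e.trans k.symm))
    have ez := cc (F.Nz hσ)
    rcases (c.omW2 (conj_mem_of_mem_normalizer (c.ns hσ).2 (XW sX))).1
      (((c.omW2 (XW sX)).2 (.inr (.inr (.inl rfl)))).cj σ) with k | k | k | k
    · exact (cjne F.z1 F.y2 (F.y2z.trans (by simpa using i (k.trans eu.symm)))).elim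
    · exact (tn sX (i (e.trans k.symm))).elim
    · exact ⟨σ, hσ, e, eu, k, by rw [map_mul, ez]; exact congrArg (· * F.z) k⟩
    · have k : σ ▷ s₁ = s₂ := k
      exact ⟨σ * F.v1, mul_mem hσ (le_normalizer vT), by rw [cm, av.t]; exact e, by rw [cm, av.u, eu],
        by rw [cm, av.s, map_mul, k, ez, mul_assoc, F.zz, mul_one], by rw [cm, av.s', k]⟩
  obtain ⟨σ, hσ, A, ev⟩ : ∃ σ ∈ 𝐍(F.T), Ac F σ F.u1 F.t s₁ s₂ ∧ σ ▷ F.v1 = F.v1 := by
    have n := (c.ns hσ).1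
    have ez := cc (F.Nz hσ)
    have i := (MulAut.conj σ).injective
    obtain ⟨y, hy⟩ : ∃ y, y = σ * F.y1 * σ⁻¹ := ⟨_, rfl⟩
    obtain ⟨yu, yV⟩ := F.nW1 y (cc' (by rw [hy, cm, cm, ci A.u, cc F.y1u, A.u]))
      (hy ▸ mul_mem (mul_mem n F.y1N) (inv_mem n))
    have yt : y ▷ F.t = F.t := by rw [hy, cm, cm, ci A.u, cc F.y1u, A.u]
    have mV : ∀ x ∈ F.V1, y ▷ x ∈ F.V1 := fun x => conj_mem_of_mem_normalizer yV
    have key : ∀ x ∈ F.W1, (y ▷ x) * x ∈ F.V1 := fun x hx => by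
      have cW1 : ∀ {a b}, a ∈ F.W1 → b ∈ F.W1 → Commute a b := comm_of_sq fun _ => F.sqW1
      have nW : ∀ x ∈ F.W1, y ▷ x ∈ F.W1 := fun x =>
        conj_mem_of_mem_normalizer (hy ▸ mul_mem (mul_mem n F.y1N) (inv_mem n))
      induction hx using closure_induction with
      | mem x hx =>
        rcases hx with rfl | rfl | rfl | rfl
        · rw [yt, F.tt]; exact one_mem _
        · exact mul_mem (mV _ (subset_closure (by simp))) (subset_closure (by simp))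
        · exact mul_mem (mV _ (subset_closure (by simp))) (subset_closure (by simp))
        · rw [cc yu, F.u11]; exact one_mem _
      | one => simp
      | mul a b ha hb h1 h2 => rw [map_mul, (cW1 (nW b hb) ha).mul_mul_mul_comm]; exact mul_mem h1 h2
      | inv a ha h1 => rwa [inv_eq_of_mul_eq_one_left (F.sqW1 ha)]
    have m := key (σ ▷ (F.z * F.v1)) (conj_mem_of_mem_normalizer n (F.X1W1 (F.V1X1 (F.memV1.2 (by simp)))))
    rw [hy, cm, cm, ci rfl, show F.y1 ▷ (F.z * F.v1) = _ from F.y1z', ← map_mul, ← mul_assoc, F.zz, one_mul] at m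
    rcases F.memV1.1 m with k | k | k | k
    · exact (cjne F.z1 F.y1 (F.y1z.trans (i (k.trans (map_one _).symm)))).elim
    · exact (F.y1nz (cc' (F.y1z.trans (i (k.trans ez.symm))))).elim
    · exact ⟨σ, hσ, A, k⟩
    · refine ⟨_, mul_mem hσ (le_normalizer (WT (XW sX))), A.mulC (WC (XW sX)), ?_⟩
      have : F.v2 ▷ F.v1 = F.z * F.v1 := by rw [MulAut.conj_apply, inv_eq_of_mul_eq_one_left F.v22]; exact F.sw.v121
      rw [cm, cm, this, map_mul, cc F.zu1.symm, cc F.u1v1, map_mul, ez, k, ← mul_assoc, F.zz, one_mul]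
  obtain ⟨m, -, mW, B⟩ := A.odd (by
    simpa using Ac.same c.u1 A (h := σ⁻¹) ⟨ci A.u, ci A.t, ci A.s, ci A.s'⟩)
  have hτ := pow_mem hσ m
  have ev : (σ ^ m) ▷ F.v1 = F.v1 := cc ((Commute.pow_left (cc' ev) m))
  generalize σ ^ m = τ at mW B hτ ev
  have e : ∀ x, τ * τ = F.t * F.u1 * x → τ * F.t * (τ * F.t) = x := fun x k => by
    have hx : x ∈ F.W2 := (mul_mem_cancel_left (mul_mem tW (XW uX))).1 (k ▸ mW)
    rw [sqm, B.t, k, cW tW (XW uX), ← mul_assoc, ← mul_assoc, F.u11, one_mul, cW tW hx, mul_assoc, F.tt, mul_one]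
  have R : τ * F.t ∈ 𝐍(F.T) ∧ Ac F (τ * F.t) F.u1 F.t s₁ s₂ ∧ (τ * F.t) ▷ F.v1 = F.v1 :=
    ⟨mul_mem hτ (le_normalizer (WT tW)), B.mulC (WC tW), by rw [cm, cc F.tv1, ev]⟩
  rcases fx c.u1 B.σv mW (by rw [cm, map_mul (MulAut.conj F.v1), cc (cc' ev).symm, map_mul, cc rfl]) with k | k | k | k
  exacts [⟨τ, hτ, B, ev, .inl k⟩, ⟨_, R.1, R.2.1, R.2.2, .inl (e 1 (by rw [k, mul_one]))⟩, ⟨τ, hτ, B, ev, .inr k⟩,
    ⟨_, R.1, R.2.1, R.2.2, .inr (e _ k)⟩]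

end SA
open SA

namespace Fr

local notation:70 g:71 " ▷ " x:70 => MulAut.conj g x

theorem CS.sd {F : Fr G} (c : F.CS) : ∃ σ f, F.SD σ f := by
  obtain ⟨σ, hσ, A, ev, σσ⟩ := exists_σ c
  obtain ⟨O, hO, dO, nO⟩ := F.sw.exO1
  rw [F.sw_W1] at hO dO nO
  have oO : ∀ o ∈ O, Odd (orderOf o) := fun o ho => ((hO o).1 ho).2
  have Y := ay c.u1
  have dec : ∀ {g h a b c' d}, Ac F g a b c' d → Ac F h a b c' d → ∃ w ∈ F.W2, ∃ o ∈ O, g = h * w * o := by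
    intro g h a b c' d A B
    obtain ⟨w, hw, o, ho, e⟩ := dO _ (Ac.same c.u1 A B)
    exact ⟨w, hw, o, ho, by rw [mul_assoc, ← e, mul_inv_cancel_left]⟩
  have σn : ∀ {n}, Ac F n (F.u1 * F.v2) (F.u1 * F.v2 * F.z) F.t F.u1 →
      Ac F (n * σ * n⁻¹) F.t F.u1 (F.u1 * F.v2 * F.z) (F.u1 * F.v2) := fun N =>
    ⟨by rw [cm, cm, ci N.s, A.s, N.s], by rw [cm, cm, ci N.s', A.s', N.s'], by rw [cm, cm, ci N.t, A.t, N.u],
      by rw [cm, cm, ci N.u, A.u, N.t]⟩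
  obtain ⟨n, nN, N⟩ : ∃ n ∈ 𝐍(F.W2), Ac F n (F.u1 * F.v2) (F.u1 * F.v2 * F.z) F.t F.u1 :=
    ⟨F.y2⁻¹ * (σ * F.v1) * F.y2, mul_mem (mul_mem (inv_mem F.sw.y1N) (mul_mem (c.ns hσ).2 (TN vT))) F.sw.y1N,
      by rw [cm, cm, Y.t, A.σv.t, ci Y.s], by rw [cm, cm, Y.u, A.σv.s', ci Y.s'], by rw [cm, cm, Y.s, A.σv.u, ci Y.t],
      by rw [cm, cm, Y.s', A.σv.s, ci Y.u]⟩
  have tu : F.t * F.u1 ∈ F.W2 := mul_mem tW (XW uX)
  replace σσ : σ * σ = 1 := σσ.resolve_right fun k => by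
    obtain ⟨w, hw, o, ho, e⟩ := dec (σn N) av
    have m := mul_mem vT (WT hw)
    have e2 : F.v1 * w * o * (F.v1 * w * o) = F.t * F.u1 := by
      rw [← e, conj_mul, k, ← ss, ← MulAut.conj_apply, map_mul, N.s, N.s']
    have := sq2 F.isPT oO m (nO (TN m)) ho (e2 ▸ WT tu)
    rcases F.sqT m with k | k
    exacts [tn' uX (one_mem _) (e2.symm.trans (this.trans k)), tn' uX zX (e2.symm.trans (this.trans k))]
  have hP := isP_sup F.isPT (P2.of_sq σσ) hσ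
  have PN : F.T ⊔ zpowers σ ≤ 𝐍(F.W2) := sup_le TN (zpowers_le.2 (c.ns hσ).2)
  have TP : F.T ≤ F.T ⊔ zpowers σ := le_sup_left
  have σP : σ ∈ F.T ⊔ zpowers σ := mem_sup_right (mem_zpowers σ)
  obtain ⟨o, ho, on⟩ := frat_odd hP oO (PN.trans nO) (g := n) (map_le_iff_le_comap.2 (by
    have k : ∀ x ∈ F.W2, n * x * n⁻¹ ∈ F.T ⊔ zpowers σ ⊔ O := fun x hx =>
      mem_sup_left (TP (WT (conj_mem_of_mem_normalizer nN hx)))
    refine sup_le (F.T_eq.trans_le ((closure_le _).2 ?_)) (zpowers_le.2 ?_)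
    · rintro _ (rfl | rfl | rfl | rfl)
      · exact k _ tW
      · obtain ⟨w, hw, o, ho, e⟩ := dec (g := n * F.v1 * n⁻¹) ⟨by rw [cm, cm, ci N.s, av.s, N.s'],
          by rw [cm, cm, ci N.s', av.s', N.s], by rw [cm, cm, ci N.t, av.t, N.t], by rw [cm, cm, ci N.u, av.u, N.u]⟩ A
        exact show n * F.v1 * n⁻¹ ∈ _ from e ▸ mul_mem_sup (mul_mem σP (TP (WT hw))) ho
      · exact k _ (XW vX)
      · exact k _ (XW uX)
    · obtain ⟨w, hw, o, ho, e⟩ := dec (σn N) av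
      exact show n * σ * n⁻¹ ∈ _ from e ▸ mul_mem_sup (TP (mul_mem vT (WT hw))) ho))
  generalize F.T ⊔ zpowers σ = P at hP PN TP σP on
  have oC : o ∈ 𝐂(F.W2) := ((hO o).1 ho).1
  have N' : Ac F (o * n) (F.u1 * F.v2) (F.u1 * F.v2 * F.z) F.t F.u1 :=
    ⟨by rw [cm, N.t, cc (oC _ (XW sX)).symm], by rw [cm, N.u, cc (oC _ (XW sX')).symm], by rw [cm, N.s, cc (oC _ tW).symm],
      by rw [cm, N.s', cc (oC _ (XW uX)).symm]⟩
  obtain ⟨f, fP, B, ff⟩ : ∃ f ∈ 𝐍(P), Ac F f (F.u1 * F.v2) (F.u1 * F.v2 * F.z) F.t F.u1 ∧ f * f = 1 := by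
    obtain ⟨m, -, mW, B⟩ := N'.odd (by
      simpa only [inv_inv] using Ac.same c.u1 N' (h := (o * n)⁻¹) ⟨ci N'.s, ci N'.s', ci N'.t, ci N'.u⟩)
    have hf := pow_mem on m
    generalize (o * n) ^ m = f at mW B hf
    have e : ∀ x ∈ F.W2, f * f = x * (f ▷ x) → ∃ f ∈ 𝐍(P), Ac F f (F.u1 * F.v2) (F.u1 * F.v2 * F.z) F.t F.u1 ∧ f * f = 1 :=
      fun x hx k => ⟨f * x, mul_mem hf (le_normalizer (TP (WT hx))), B.mulC (WC hx), by
        rw [sqm, k, ← mul_assoc, mul_assoc _ _ x]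
        exact sqW _ (mul_mem ((mul_mem_cancel_left hx).1 (k ▸ mW)) hx)⟩
    rcases fix2 sqW tW (XW sX) (XW uX) (XW sX') ((gen c.u1).trans_eq (by rw [Set.insert_comm F.u1])) B.t B.s B.u B.s' (tn sX)
      (fun k => F.sw.y1nz (cc' (F.y2z.trans ((eq_inv_of_mul_eq_one_left (by simpa [mul_assoc] using k)).trans
        (inv_eq_of_mul_eq_one_left F.zz))))) (tn' uX (mul_mem sX sX')) mW (by rw [map_mul, cc rfl]) with k | k | k | k
    exacts [⟨f, hf, B, k⟩, e _ tW (B.t ▸ k), e _ (XW uX) (B.u ▸ k), e _ tu (by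
      rw [k, map_mul, B.t, B.u, Commute.mul_mul_mul_comm (cW (XW sX) (XW uX))])]
  have fi : f⁻¹ = f := inv_eq_of_mul_eq_one_left ff
  have cl : ∀ w ∈ F.W2, (σ * F.v1) ▷ w = w → w ∈ closure {F.t * F.u1, F.z} := fun w hw e => by
    have m1 : F.t * F.u1 ∈ closure {F.t * F.u1, F.z} := subset_closure (by simp)
    have m2 : F.z ∈ closure {F.t * F.u1, F.z} := subset_closure (by simp)
    rcases fx c.u1 A.σv hw e with rfl | rfl | rfl | rfl
    exacts [one_mem _, m1, m2, mul_mem m1 m2]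
  have clE : closure {F.t * F.u1, F.z} ≤ F.E := (closure_le _).2 (by
    rintro _ (rfl | rfl)
    · have := F.comm_mem σ F.t
      rwa [show σ * F.t * σ⁻¹ = _ from A.t, inv_eq_of_mul_eq_one_left F.tt, ← F.tu1] at this
    · exact F.zE)
  obtain ⟨w, hw, ew⟩ : ∃ w ∈ closure {F.t * F.u1, F.z}, f * σ * f⁻¹ = F.v1 * w := by
    obtain ⟨w, ew⟩ : ∃ w, w = F.v1⁻¹ * (f * σ * f⁻¹) := ⟨_, rfl⟩
    have hw : w ∈ F.W2 := by
      rw [ew]
      exact p2W ((σn B).same c.u1 av) (P2.of_mem hP (mul_mem (inv_mem (TP vT)) (conj_mem_of_mem_normalizer fP σP)))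
    replace ew := (inv_mul_eq_iff_eq_mul.1 ew.symm)
    have vw : F.v1 ▷ w = w := by
      have := cjsq σσ f
      rw [ew, sqm, F.v11, mul_one] at this
      exact (eq_inv_of_mul_eq_one_left this).trans (inv_eq_of_mul_eq_one_left (sqW w hw))
    refine ⟨w, cl w hw ?_, ew⟩
    have m : w ∈ (F.W2 ⊓ centralizer {σ}) ⊔ zpowers F.t := (closure_le _).2 (by
      have k : ∀ x ∈ F.W2, σ ▷ x = x → x ∈ (F.W2 ⊓ centralizer {σ}) ⊔ zpowers F.t := fun x hx e =>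
        mem_sup_left ⟨hx, mem_centralizer_singleton_iff.2 (cc' e).symm⟩
      have mt : F.t ∈ (F.W2 ⊓ centralizer {σ}) ⊔ zpowers F.t := mem_sup_right (mem_zpowers _)
      rintro _ (rfl | rfl | rfl | rfl)
      exacts [mt, (mul_mem_cancel_left mt).1 (k _ tu (by rw [map_mul, A.t, A.u, F.tu1])), k _ (XW sX) A.s,
        k _ (XW sX') A.s']) (gen c.u1 hw)
    rcases adj sqW inf_le_left tW m with m | m
    · rw [cm, vw, cc (mem_centralizer_singleton_iff.1 m.2).symm]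
    · have e := cc (mem_centralizer_singleton_iff.1 m.2).symm
      rw [map_mul, A.t, ← eq_mul_inv_iff_mul_eq, inv_eq_of_mul_eq_one_left F.u11, mul_assoc] at e
      have e1 : σ ▷ (f * σ * f⁻¹) = f * σ * f⁻¹ * (F.t * F.u1) := by rw [ew, map_mul, ev, e, mul_assoc]
      have e2 := congrArg (MulAut.conj f) e1
      rw [map_mul (MulAut.conj f) _ (F.t * F.u1), map_mul _ F.t, B.t, B.u, ss] at e2
      simp only [MulAut.conj_apply, fi, inv_eq_of_mul_eq_one_left σσ] at e1 e2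
      have f2 : ∀ x, f * (f * x) = x := fun x => by rw [← mul_assoc, ff, one_mul]
      have σ2 : ∀ x, σ * (σ * x) = x := fun x => by rw [← mul_assoc, σσ, one_mul]
      refine (tn' (F := F) uX zX ?_).elim
      have a1 : F.t * F.u1 = f * σ * f * σ * (f * σ * f * σ) := by
        rw [mul_assoc (f * σ * f), ← mul_assoc σ, e1]; simp only [mul_assoc, f2, σ2]
      have a2 : F.z = σ * f * σ * f * (σ * f * σ * f) := by
        have := congrArg (σ * ·) e2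
        simp only [mul_assoc, f2, σ2, ff, mul_one] at this ⊢
        exact this.symm
      rw [← inv_eq_of_mul_eq_one_left F.zz, a1, a2]
      simp only [mul_inv_rev, fi, inv_eq_of_mul_eq_one_left σσ, mul_assoc]
  have cE : ∀ g x, g * x * g⁻¹ ∈ F.E → x ∈ F.E := fun g x h => by simpa [mul_assoc] using F.En.conj_mem _ h g⁻¹
  have σE : σ ∈ F.E := cE f σ (ew ▸ mul_mem F.v1E (clE hw))
  have iv : ∀ {g x y : G}, g * g = 1 → g ▷ x = y → g * x * g = y := fun h e => by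
    rwa [MulAut.conj_apply, inv_eq_of_mul_eq_one_left h] at e
  refine ⟨σ, f, c, σσ, ff, iv σσ A.t, cc' A.s, cc' ev, iv ff B.t, iv ff B.u, ⟨w, hw, iv ff ew⟩, ?_⟩
  obtain ⟨w, hw, o, ho, e⟩ := dec (g := F.y2 * f * F.y2⁻¹) ⟨by rw [cm, cm, ci Y.t, B.t, Y.s],
    by rw [cm, cm, ci Y.s, B.s, Y.t], by rw [cm, cm, ci Y.s', B.s', Y.u], by rw [cm, cm, ci Y.u, B.u, Y.s']⟩ A.σv
  have m := mul_mem (mul_mem σP (TP vT)) (TP (WT hw))
  have e2 := cjsq ff F.y2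
  rw [e] at e2
  have := sq2 hP oO m (nO (PN m)) ho (e2 ▸ one_mem _)
  rw [e2, sqm, sqm σ, ev, σσ, mul_one, F.v11, mul_one] at this
  have k := clE (cl w hw ((eq_inv_of_mul_eq_one_left this.symm).trans (inv_eq_of_mul_eq_one_left (sqW w hw))))
  have := mul_mem (mul_mem (mul_mem σE F.v1E) k) (F.odd_mem (oO o ho) (pow_orderOf_eq_one o ▸ one_mem _))
  exact cE F.y2 f (e ▸ this)

end Fr

end H60M.A7
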