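import Mathlib
import Cfsg.Agent.Lib.B7S.Bas2
import Cfsg.Agent.Lib.A7S.SB1

/-! Case `S`: Sylow subgroup and transfer. -/

set_option autoImplicit false
set_option linter.unusedSectionVars false

namespace H60M.A7

open Subgroup H69 H36.SW

variable {G : Type*} [Group G] [Finite G]

namespace SB

open H25.A7.SB1

variable {F : Fr G} {σ f : G}

/-- the model -/
structure Md (F : Fr G) (σ f : G) (φ : Wr →* G) : Prop where
  inj : Function.Injective φ
  t : φ tt = F.t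
  s : φ ss = σ
  f : φ ff = f
  b0 : φ (B 0) = F.t
  b1 : φ (B 1) = F.u1
  b2 : φ (B 2) = F.u1 * F.v2
  b3 : φ (B 3) = F.u1 * F.v2 * F.z
  z : φ (B 2 * B 3) = F.z

theorem exists_md (h : F.SD σ f) : ∃ φ, Md F σ f φ := by
  have : Fact (Nat.Prime 2) := ⟨Nat.prime_two⟩
  obtain ⟨w, hw, e⟩ := h.fσ
  have cw : ∀ y, Commute y (F.t * F.u1) → Commute y F.z → Commute y w := fun y h1 h2 =>
    (mem_centralizer_singleton_iff.1 ((closure_le (centralizer {y})).2 (by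
      rintro _ (rfl | rfl)
      exacts [mem_centralizer_singleton_iff.2 h1.symm, mem_centralizer_singleton_iff.2 h2.symm]) hw)).symm
  have s2 : F.u1 * F.v2 * (F.u1 * F.v2) = 1 := by
    rw [mul_assoc, ← mul_assoc F.v2, ← F.u1v2, mul_assoc, F.v22, mul_one, F.u11]
  have e1 : σ * F.t = F.u1 * σ := by rw [← h.σt, mul_assoc, h.σσ, mul_one]
  have e2 : σ * F.u1 = F.t * σ := by rw [← h.σt, ← mul_assoc, ← mul_assoc, h.σσ, one_mul]
  have ez : F.z = F.v1 * (F.u1 * F.v2) * F.v1 * (F.u1 * F.v2) := by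
    have c : Commute F.u1 (F.v1 * F.v2) := Commute.mul_right F.u1v1 F.u1v2
    have e : F.v1 * (F.u1 * F.v2) = F.u1 * (F.v1 * F.v2) := by
      rw [← mul_assoc, ← F.u1v1, mul_assoc]
    rw [mul_assoc _ F.v1, e, ← sq, c.mul_pow, sq, F.u11, one_mul, sq, ← mul_assoc, F.hz]
  obtain ⟨φ, h1, h2, h3⟩ := exists_hom F.tt h.σσ h.ff (by
      rw [show (F.t * σ) ^ 4 = F.t * (σ * F.t * σ) * (F.t * (σ * F.t * σ)) by
        simp only [pow_succ, pow_zero, one_mul, mul_assoc], h.σt, mul_assoc, ← mul_assoc F.u1,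
        ← F.tu1, mul_assoc, F.u11, mul_one, F.tt])
    (by rw [h.ft]; exact Commute.mul_right F.tu1 F.tv2)
    (by rw [e]; exact Commute.mul_right F.tv1 (cw _ ((Commute.refl _).mul_right F.tu1) F.zt.symm))
    (by rw [h.ft]; exact h.σs)
    (by
      rw [e]
      refine Commute.mul_right h.σv (cw _ ?_ ?_)
      · show σ * _ = _
        rw [← mul_assoc, e1, mul_assoc, e2, ← mul_assoc, F.tu1]
      · rw [ez]
        exact ((Commute.mul_right h.σv h.σs).mul_right h.σv).mul_right h.σs)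
  have b0 : φ (B 0) = F.t := h1
  have b1 : φ (B 1) = F.u1 := by
    show φ (ss * tt * ss) = _
    rw [map_mul, map_mul, h1, h2, h.σt]
  have b2 : φ (B 2) = F.u1 * F.v2 := by
    show φ (ff * tt * ff) = _
    rw [map_mul, map_mul, h1, h3, h.ft]
  have b3 : φ (B 3) = F.u1 * F.v2 * F.z := by
    show φ (ff * B 1 * ff) = _
    rw [map_mul, map_mul, b1, h3, h.fu]
  have bz : φ (B 2 * B 3) = F.z := by rw [map_mul, b2, b3, ← mul_assoc, s2, one_mul]
  refine ⟨φ, ?_, h1, h2, h3, b0, b1, b2, b3, bz⟩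
  rw [← MonoidHom.ker_eq_bot_iff]
  by_contra n
  obtain ⟨⟨x, hx, hc⟩, x1⟩ := ne_bot_iff_exists_ne_one.1 (inf_centralizer_ne_bot (T := ⊤)
    (isP.to_subgroup _) (isP.to_subgroup _) (normal_iff_top_le_normalizer.1 inferInstance) n)
  rcases cen x (hc _ (mem_top _)).symm (hc _ (mem_top _)).symm (hc _ (mem_top _)).symm with k | k
  · exact x1 (Subtype.ext k)
  have k2 : φ x = 1 := hx
  rw [k, map_mul, map_mul, b0, b1, bz, mul_assoc, ← F.zu1] at k2
  exact absurd (F.ind (a := 1) (b := 0) (c := 0) (d := 1) (e := 1) (by simpa [mul_assoc] using k2)).1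
    (by decide)

variable {φ : Wr →* G}

theorem Md.omW (m : Md F σ f φ) (h : F.SD σ f) {s : G} (hs : s ∈ F.W1 ∨ s ∈ F.W2) (o : F.Om s) :
    ∃ i, s = φ (B i) := by
  rcases hs with hs | hs
  · rcases (h.cs.omW1 hs).1 o with e | e
    exacts [⟨0, m.b0 ▸ e⟩, ⟨1, m.b1 ▸ e⟩]
  · rcases (h.cs.omW2 hs).1 o with e | e | e | e
    exacts [⟨0, m.b0 ▸ e⟩, ⟨1, m.b1 ▸ e⟩, ⟨2, m.b2 ▸ e⟩, ⟨3, m.b3 ▸ e⟩]

theorem Md.nss (m : Md F σ f φ) (h : F.SD σ f) : ¬ F.Om (φ (ss * (ff * ss * ff))) := fun o => by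
  obtain ⟨k, -, hk⟩ := F.ea_cj o (X := X3.map φ)
    (by rintro _ ⟨x, hx, rfl⟩; rw [← map_mul, (X3_sq x hx).1, map_one])
    (by
      rintro _ ⟨x, hx, rfl⟩
      rw [mem_centralizer_singleton_iff, ← map_mul, (X3_sq x hx).2, map_mul])
    (by
      rw [card_map_of_injective m.inj, card_X3, F.cardW1,
        (F.cardF0.resolve_left fun e => h.cs.u1 e.1).2])
  obtain ⟨p, q, r, ⟨hp, hq, hr⟩, ⟨n1, n2, n3⟩, hc⟩ := X3_ex
  have key : ∀ x ∈ X3, x = p ∨ x = q ∨ x = r ∨ x = p * q * r → ∃ i, k⁻¹ * φ x * k = φ (B i) :=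
    fun x hx e => by
      obtain ⟨y, hy⟩ := hc x e
      refine m.omW h (hk.imp (fun e' => mem_cj.1 (e'.ge (mem_map_of_mem φ hx)))
        fun e' => mem_cj.1 (e'.ge (mem_map_of_mem φ hx))) ?_
      have := (o.cj (φ y)).cj k⁻¹
      rwa [← map_inv, ← map_mul, ← map_mul, ← hy, inv_inv] at this
  obtain ⟨i, hi⟩ := key p hp (.inl rfl)
  obtain ⟨j, hj⟩ := key q hq (.inr (.inl rfl))
  obtain ⟨l, hl⟩ := key r hr (.inr (.inr (.inl rfl)))
  obtain ⟨n, hn⟩ := key _ (mul_mem (mul_mem hp hq) hr) (.inr (.inr (.inr rfl)))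
  have ne : ∀ {x y : Wr} {i : Fin 4}, k⁻¹ * φ x * k = φ (B i) → k⁻¹ * φ y * k = φ (B i) → x = y :=
    fun e e' => m.inj (mul_left_cancel (mul_right_cancel (e.trans e'.symm)))
  rcases B_ind i j l n (m.inj (by
    rw [map_mul, map_mul, ← hi, ← hj, ← hl, ← hn, map_mul, map_mul]; group)) with rfl | rfl | rfl
  exacts [n1 (ne hi hj), n2 (ne hi hl), n3 (ne hj hl)]

theorem Md.om (m : Md F σ f φ) (h : F.SD σ f) {x : Wr} (e : x.e = false) (o : F.Om (φ x)) :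
    ∃ i, x = B i := by
  obtain ⟨w, hw, ew⟩ := h.fσ
  have t1 : F.t ∈ F.W1 := subset_closure (by simp)
  have u1 : F.u1 ∈ F.W1 := subset_closure (by simp)
  have z1 : F.z ∈ F.W1 := subset_closure (by simp)
  have s1 : φ (ff * ss * ff) ∈ F.W1 := by
    rw [map_mul, map_mul, m.f, m.s, ew]
    refine mul_mem (subset_closure (by simp)) ((closure_le _).2 ?_ hw)
    rintro _ (rfl | rfl)
    exacts [mul_mem t1 u1, z1]
  have w1 : ∀ i j k l : ℕ, φ (B 0 ^ i * B 1 ^ j * (B 2 * B 3) ^ k * (ff * ss * ff) ^ l) ∈ F.W1 :=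
    fun i j k l => by
      rw [map_mul, map_mul, map_mul, map_pow, map_pow, map_pow, map_pow, m.b0, m.b1, m.z]
      exact mul_mem (mul_mem (mul_mem (pow_mem t1 _) (pow_mem u1 _)) (pow_mem z1 _)) (pow_mem s1 _)
  have oc : ∀ y, F.Om (φ (y * x * y⁻¹)) := fun y => by
    rw [map_mul, map_mul, map_inv]; exact o.cj _
  rcases invol x e (m.inj (by rw [map_mul, o.sq.1, map_one])) with
    ⟨i, j, k, l, e⟩ | ⟨i, j, k, l, e⟩ | ⟨i, j, k, l, e⟩ | ⟨y, e⟩
  · have u2 : F.u1 ∈ F.W2 := F.sw.X1W1 F.sw.u2X1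
    have v2 : F.u1 * F.v2 ∈ F.W2 := mul_mem u2 (subset_closure (by simp))
    refine (m.omW h (.inr ?_) o).imp fun i e => m.inj e
    rw [e, map_mul, map_mul, map_mul, map_pow, map_pow, map_pow, map_pow, m.b0, m.b1, m.b2, m.b3]
    exact mul_mem (mul_mem (mul_mem (pow_mem (subset_closure (by simp)) _) (pow_mem u2 _))
      (pow_mem v2 _)) (pow_mem (mul_mem v2 (subset_closure (by simp))) _)
  · exact (m.omW h (.inl (e ▸ w1 i j k l)) o).imp fun i e => m.inj e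
  · exact fB x (((h.cs.omW1 (e ▸ w1 i j k l)).1 (oc ff)).imp (fun k => m.inj (k.trans m.b0.symm))
      fun k => m.inj (k.trans m.b1.symm))
  · exact (m.nss h (e ▸ oc y)).elim

theorem Md.S0_eq (m : Md F σ f φ) :
    closure ({F.t * F.u1, F.t * (F.u1 * F.v2), σ, f} : Set G) = S0.map φ := by
  refine le_antisymm ((closure_le _).2 ?_) ?_
  · rintro _ (rfl | rfl | rfl | rfl)
    · exact ⟨_, S0_gen.1, by rw [map_mul, m.b0, m.b1]⟩
    · exact ⟨_, S0_gen.2.1, by rw [map_mul, m.b0, m.b2]⟩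
    · exact ⟨_, S0_gen.2.2.1, m.s⟩
    · exact ⟨_, S0_gen.2.2.2, m.f⟩
  · rintro _ ⟨x, hx, rfl⟩
    obtain ⟨i, j, k, l, a, b, rfl⟩ := S0_nf x hx
    simp only [map_mul, map_pow, m.b0, m.b1, m.b2, m.s, m.f]
    refine mul_mem (mul_mem (mul_mem (mul_mem (pow_mem ?_ _) (pow_mem ?_ _)) (mul_mem (mul_mem ?_
      (mul_mem (pow_mem ?_ _) (pow_mem ?_ _))) ?_)) (pow_mem ?_ _)) (pow_mem ?_ _) <;>
      exact subset_closure (by simp)

theorem Md.S_eq (m : Md F σ f φ) (h : F.SD σ f) : closure ({F.t, σ, f} : Set G) = φ.range := by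
  refine le_antisymm ((closure_le _).2 ?_) ?_
  · rintro _ (rfl | rfl | rfl)
    exacts [⟨_, m.t⟩, ⟨_, m.s⟩, ⟨_, m.f⟩]
  have t : F.t ∈ closure ({F.t, σ, f} : Set G) := subset_closure (by simp)
  have s : σ ∈ closure ({F.t, σ, f} : Set G) := subset_closure (by simp)
  have f' : f ∈ closure ({F.t, σ, f} : Set G) := subset_closure (by simp)
  have k : S0.map φ ≤ closure ({F.t, σ, f} : Set G) := by
    rw [← m.S0_eq, closure_le]
    rintro _ (rfl | rfl | rfl | rfl)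
    · exact mul_mem t (h.σt ▸ mul_mem (mul_mem s t) s)
    · exact mul_mem t (h.ft ▸ mul_mem (mul_mem f' t) f')
    exacts [s, f']
  rintro _ ⟨x, rfl⟩
  rcases S0_two x with e | e
  · exact k (mem_map_of_mem φ e)
  · have := k (mem_map_of_mem φ e)
    rwa [map_mul, m.t, mul_mem_cancel_right t] at this

theorem Md.syl (m : Md F σ f φ) (h : F.SD σ f) : IsSylowIn 2 φ.range ⊤ := by
  have hP : IsPGroup 2 φ.range := isP.of_surjective _ φ.rangeRestrict_surjective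
  obtain ⟨w, hw, ew⟩ := h.fσ
  have t : F.t ∈ φ.range := ⟨_, m.b0⟩
  have u : F.u1 ∈ φ.range := ⟨_, m.b1⟩
  have z : F.z ∈ φ.range := ⟨_, m.z⟩
  have hT : F.T ≤ φ.range := by
    rw [F.T_eq, closure_le]
    rintro _ (rfl | rfl | rfl | rfl)
    · exact t
    · refine (mul_mem_cancel_right ((closure_le φ.range).2 ?_ hw)).1
        ⟨ff * ss * ff, by rw [map_mul, map_mul, m.f, m.s, ew]⟩
      rintro _ (rfl | rfl)
      exacts [mul_mem t u, z]
    · exact (mul_mem_cancel_left u).1 ⟨_, m.b2⟩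
    · exact u
  refine syl_of_norm (t := F.t) hP le_top ?_ fun k _ hk => ?_
  · rw [top_inf_eq, F.sylT.max _ (le_inf hT F.sylT.le) inf_le_right hP.to_inf_left]
    exact F.sylT
  obtain ⟨x, hx⟩ := conj_mem_of_mem_normalizer hk t
  have o : F.Om (φ x) := ⟨k, hx.symm⟩
  cases e : x.e
  · obtain ⟨i, rfl⟩ := m.om h e o
    obtain ⟨y, hy⟩ := B_cj i
    exact ⟨φ y, ⟨y, rfl⟩, by rw [← hx, hy, map_mul, map_mul, map_inv, m.t]⟩
  obtain ⟨y, hy⟩ := (out x e (m.inj (by rw [map_mul, o.sq.1, map_one]))).2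
  obtain ⟨y', e'⟩ := conj_mem_of_mem_normalizer' hk (⟨y, rfl⟩ : φ y ∈ φ.range)
  have c := congrArg φ (tcomm y')
  simp only [map_mul, map_inv, m.t, e'] at c
  refine (hy (m.inj ?_)).elim
  simp only [map_mul, map_inv, hx]
  calc _ = k * (F.t * (k⁻¹ * φ y * k * F.t * (k⁻¹ * φ y * k)⁻¹)) * k⁻¹ := by group
    _ = _ := by rw [c]; group

theorem Md.tE (m : Md F σ f φ) (h : F.SD σ f) : F.t ∉ F.E := by
  refine thompson F.En F.Es F.ncE F.tt (m.syl h) (M := M.map φ) (map_le_range φ M) ⟨_, m.t⟩ ?_ ?_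
  · rintro _ ⟨x, rfl⟩
    exact (M_two x).imp (mem_map_of_mem φ) fun e => ⟨_, e, by rw [map_mul, m.t]⟩
  · rintro g ⟨x, hx, e⟩
    have o : F.Om (φ x) := ⟨g, e.symm⟩
    cases e' : x.e
    · obtain ⟨i, rfl⟩ := m.om h e' o
      exact B_M i hx
    · exact (out x e' (m.inj (by rw [map_mul, o.sq.1, map_one]))).1 hx

end SB

namespace Fr

theorem SD.syl {F : Fr G} {σ f : G} (h : F.SD σ f) : IsSylowIn 2 (closure ({F.t, σ, f} : Set G)) ⊤ ∧ F.t ∉ F.E ∧
    IsSylowIn 2 (closure ({F.t * F.u1, F.t * (F.u1 * F.v2), σ, f} : Set G)) F.E ∧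
    Nat.card (closure ({F.t * F.u1, F.t * (F.u1 * F.v2), σ, f} : Set G)) = 64 := by
  have : Fact (Nat.Prime 2) := ⟨Nat.prime_two⟩
  obtain ⟨φ, m⟩ := SB.exists_md h
  have tE := m.tE h
  have En := F.En
  have ti := inv_eq_of_mul_eq_one_right F.tt
  have e1 : F.t * F.u1 ∈ F.E := by
    have := F.comm_mem F.t σ
    rwa [ti, inv_eq_of_mul_eq_one_right h.σσ, mul_assoc, mul_assoc, ← mul_assoc σ, h.σt] at this
  have e2 : F.t * (F.u1 * F.v2) ∈ F.E := by
    have := F.comm_mem F.t f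
    rwa [ti, inv_eq_of_mul_eq_one_right h.ff, mul_assoc, mul_assoc, ← mul_assoc f, h.ft] at this
  have e3 : σ ∈ F.E := by
    obtain ⟨w, hw, ew⟩ := h.fσ
    rw [← mul_mem_cancel_left h.fE, ← mul_mem_cancel_right h.fE, ew]
    refine mul_mem F.v1E ((closure_le _).2 ?_ hw)
    rintro _ (rfl | rfl)
    exacts [e1, F.zE]
  have e4 : H25.A7.SB1.S0.map φ ≤ F.E := by
    rw [← m.S0_eq, closure_le]
    rintro _ (rfl | rfl | rfl | rfl)
    exacts [e1, e2, e3, h.fE]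
  have e5 : φ.range ⊓ F.E = H25.A7.SB1.S0.map φ := by
    refine le_antisymm ?_ (le_inf (map_le_range _ _) e4)
    rintro _ ⟨⟨x, rfl⟩, hx⟩
    refine mem_map_of_mem φ ((H25.A7.SB1.S0_two x).resolve_right fun e => tE ?_)
    have := e4 (mem_map_of_mem φ e)
    rwa [map_mul, m.t, F.E.mul_mem_cancel_left hx] at this
  rw [m.S_eq h, m.S0_eq]
  exact ⟨m.syl h, tE, e5 ▸ (m.syl h).inf_normal le_top (normal_iff_top_le_normalizer.1 En),
    by rw [card_map_of_injective m.inj, H25.A7.SB1.card_S0]⟩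

end Fr

end H60M.A7
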