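import Mathlib
import Cfsg.Agent.Lib.B7S.EC
import Cfsg.Agent.Lib.Inv73.Transfer

/-! Type `EE`, case `All`: `v ∈ E`. -/

set_option autoImplicit false
set_option linter.unusedSectionVars false
set_option linter.unusedVariables false

namespace H60M.A7

open Subgroup H69 H36.SW EB

variable {G : Type*} [Group G] [Finite G]

namespace Fr
variable {F : Fr G} {u0 g v d1 d2 : G}

theorem d_F0D (F : Fr G) : F.F0 ≤ closure ({F.v1, F.v2, F.u1} : Set G) := by
  have h1 : F.v1 ∈ closure ({F.v1, F.v2, F.u1} : Set G) := subset_closure (by simp)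
  have h2 : F.v2 ∈ closure ({F.v1, F.v2, F.u1} : Set G) := subset_closure (by simp)
  have h3 : F.u1 ∈ closure ({F.v1, F.v2, F.u1} : Set G) := subset_closure (by simp)
  have hz : F.z ∈ closure ({F.v1, F.v2, F.u1} : Set G) := F.hz ▸ mul_mem (mul_mem (mul_mem h1 h2) h1) h2
  intro x hx
  rcases F.memF0.1 hx with rfl | rfl | rfl | rfl
  exacts [one_mem _, hz, h3, mul_mem hz h3]

theorem d_tC (F : Fr G) : F.t ∈ 𝐂(closure ({F.v1, F.v2, F.u1} : Set G)) := by
  refine cen_closure ?_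
  rintro a (rfl | rfl | rfl)
  exacts [F.tv1.symm, F.tv2.symm, F.tu1.symm]

theorem d_T (F : Fr G) : F.T = closure ({F.v1, F.v2, F.u1} : Set G) ⊔ zpowers F.t := by
  rw [F.T_eq, zpowers_eq_closure, ← Subgroup.closure_union, Set.union_singleton]

theorem d_tD (F : Fr G) : F.t ∉ closure ({F.v1, F.v2, F.u1} : Set G) := fun h =>
  F.tD (closure_mono (by rintro a (rfl | rfl | rfl) <;> simp) h)

theorem EK.d_F0Z (h : F.EK u0 g v d1 d2) : F.F0 ≤ F.Z0 g v := by
  intro x hx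
  rcases F.memF0.1 hx with rfl | rfl | rfl | rfl
  exacts [one_mem _, h.toEE.b_zZ, h.toEE.b_uZ, mul_mem h.toEE.b_zZ h.toEE.b_uZ]

theorem EK.d_ZC (h : F.EK u0 g v d1 d2) : F.Z0 g v ≤ 𝐂(closure ({F.v1, F.v2, F.u1} : Set G)) := by
  refine (h.Zc.trans inf_le_right).trans (centralizer_anti ((closure_le _).2 ?_))
  rintro a (rfl | rfl | rfl)
  exacts [h.toEE.b_v1U, h.toEE.b_v2U, h.toEE.b_ZU h.toEE.b_uZ]

theorem EK.d_isP (h : F.EK u0 g v d1 d2) : IsPGroup 2 ↥(F.Z0 g v ⊔ zpowers F.t) :=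
  isP_sup (isP_of_P2 fun x hx => P2.of_sq (h.toEE.sqZ0 hx)) (P2.of_sq F.tt) h.toEE.tN

theorem EK.d_om (h : F.EK u0 g v d1 d2) {s : G} (hs : s ∈ F.Z0 g v ⊔ zpowers F.t) (o : F.Om s) :
    ∃ c ∈ F.Z0 g v, c * F.t * c⁻¹ = s := by
  rcases (mem_adj h.toEE.tN (F.tt ▸ one_mem _)).1 hs with h1 | h1
  · exact absurd o (h.nOm (h.toEE.b_ZU h1))
  · obtain ⟨w, hw⟩ : ∃ w, w = s * F.t⁻¹ := ⟨_, rfl⟩
    have e : s = w * F.t := by rw [hw, inv_mul_cancel_right]
    rw [← hw] at h1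
    have c : w * F.t = F.t * w := comm_of_sq (h.toEE.sqZ0 h1) F.tt (e ▸ o.sq.1)
    rw [e, c] at o ⊢
    exact h.toEE.tr (h.toEE.fix h1 c) o

theorem EK.d_syl (h : F.EK u0 g v d1 d2) :
    IsSylowIn 2 (F.Z0 g v ⊔ zpowers F.t) 𝐂(closure ({F.v1, F.v2, F.u1} : Set G)) := by
  have hle : F.Z0 g v ⊔ zpowers F.t ≤ 𝐂(closure ({F.v1, F.v2, F.u1} : Set G)) :=
    sup_le h.d_ZC (zpowers_le.2 F.d_tC)
  refine syl_of_norm (t := F.t) h.d_isP hle ⟨inf_le_inf hle le_rfl, h.d_isP.to_inf_left, fun R h1 h2 h3 => ?_⟩ ?_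
  · refine le_antisymm (fun x hx => ⟨?_, (h2 hx).2⟩) h1
    have hC : x ∈ 𝐂(F.T) := by
      rw [F.d_T, centralizer_sup, centralizer_zpowers]
      exact h2 hx
    have hT : x ∈ F.T := F.p2T (mem_centralizer_singleton_iff.1 (h2 hx).2) (centralizer_le_normalizer _ hC)
      (P2.of_mem h3 hx)
    rcases F.memZT.1 ((F.cenT hT).1 hC) with h4 | h4
    · exact mem_sup_left (h.d_F0Z h4)
    · exact (mul_mem_cancel_left (mem_sup_right (mem_zpowers F.t))).1 (mem_sup_left (h.d_F0Z h4))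
  · intro k _ hk
    obtain ⟨c, hc, e⟩ := h.d_om (conj_mem_of_mem_normalizer hk (mem_sup_right (mem_zpowers F.t))) (F.om_t.cj k)
    exact ⟨c, mem_sup_left hc, e.symm⟩

theorem EK.d_rr (h : F.EK F.u1 g v d1 d2) : F.t * v * (F.t * v) = F.u1 := by
  rw [mul_assoc, ← mul_assoc v, h.vt, ← mul_assoc, F.tt, one_mul]

theorem EK.d_rC (h : F.EK u0 g v d1 d2) : F.t * v ∈ 𝐂(closure ({F.v1, F.v2, F.u1} : Set G)) :=
  mul_mem F.d_tC h.vT

theorem EK.d_P (h : F.EK F.u1 g v d1 d2) : closure ({F.t * v, F.v1, F.v2} : Set G) =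
    closure ({F.v1, F.v2, F.u1} : Set G) ⊔ zpowers (F.t * v) := by
  have hr : F.t * v ∈ closure ({F.t * v, F.v1, F.v2} : Set G) := subset_closure (by simp)
  apply le_antisymm
  · rw [closure_le]
    rintro a (rfl | rfl | rfl)
    · exact mem_sup_right (mem_zpowers _)
    · exact mem_sup_left (subset_closure (by simp))
    · exact mem_sup_left (subset_closure (by simp))
  · refine sup_le ((closure_le _).2 ?_) (zpowers_le.2 hr)
    rintro a (rfl | rfl | rfl)
    · exact subset_closure (by simp)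
    · exact subset_closure (by simp)
    · exact h.d_rr ▸ mul_mem hr hr

theorem EK.d_inv (h : F.EK F.u1 g v d1 d2) (c : F.CA) {y : G} (hy : y ∈ closure ({F.t * v, F.v1, F.v2} : Set G))
    (h2 : y * y = 1) : y ∈ closure ({F.v1, F.v2, F.u1} : Set G) := by
  rw [h.d_P] at hy
  rcases (mem_adj (centralizer_le_normalizer _ h.d_rC) (h.d_rr ▸ subset_closure (by simp))).1 hy with h1 | h1
  · exact h1
  · exfalso
    obtain ⟨d, hd⟩ : ∃ d, d = y * (F.t * v)⁻¹ := ⟨_, rfl⟩
    have e : y = d * (F.t * v) := by rw [hd, inv_mul_cancel_right]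
    rw [← hd] at h1
    have cm : Commute d (F.t * v) := mem_centralizer_iff_commute.1 h.d_rC d h1
    rw [e, ← pow_two, cm.mul_pow, pow_two, pow_two, h.d_rr] at h2
    rcases F.sqT (F.d_T ▸ mem_sup_left h1) with h3 | h3
    · rw [h3, one_mul] at h2
      exact c.u1 h2
    · rw [h3, ← F.u2_eq c.u1] at h2
      exact c.u2 h2

theorem EK.d_isPP (h : F.EK F.u1 g v d1 d2) : IsPGroup 2 (closure ({F.t * v, F.v1, F.v2} : Set G)) := by
  rw [h.d_P]
  exact isP_sup (F.isPT.to_le (F.d_T ▸ le_sup_left)) (P2.of_mul_self (h.d_rr ▸ P2.of_sq F.u11))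
    (centralizer_le_normalizer _ h.d_rC)

/-- an element of `Σ` with square `u1` is conjugate to `r` under `Z0` -/
theorem EK.d_root (h : F.EK F.u1 g v d1 d2) (c : F.CA) {y : G} (hy : y ∈ F.Z0 g v ⊔ zpowers F.t)
    (h2 : y * y = F.u1) : ∃ s ∈ F.Z0 g v, s * (F.t * v) * s⁻¹ = y := by
  have e := h.toEE
  rcases (mem_adj e.tN (F.tt ▸ one_mem _)).1 hy with h1 | h1
  · exact absurd ((e.sqZ0 h1).symm.trans h2).symm c.u1
  · have ti := inv_self F.tt
    have hw : F.t * y * v ∈ F.Z0 g v := by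
      have := conj_mem_of_mem_normalizer e.tN h1
      rw [ti, mul_assoc, mul_assoc, F.tt, mul_one] at this
      exact mul_mem this e.b_vZ
    obtain ⟨f, hf⟩ : ∃ f, f = F.t * y * v := ⟨_, rfl⟩
    have ey : y = F.t * f * v := by
      rw [hf, ← mul_assoc, ← mul_assoc, F.tt, one_mul, mul_assoc, h.vv, mul_one]
    rw [← hf] at hw
    have cv : ∀ s ∈ F.Z0 g v, s * v = v * s := fun s hs => mem_centralizer_iff_commute.1 (e.b_Zab e.b_vZ) s hs
    have cu : f * F.u1 = F.u1 * f := mem_centralizer_iff_commute.1 (e.b_Zab e.b_uZ) f hw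
    have ft : f * F.t = F.t * f := by
      refine comm_of_sq (e.sqZ0 hw) F.tt ?_
      have e1 : y * y = F.t * f * F.t * f * F.u1 := by
        calc y * y = F.t * f * (v * F.t * (f * v)) := by rw [ey]; group
          _ = F.t * f * (v * F.t * v) * f := by rw [cv f hw]; group
          _ = F.t * f * F.t * (F.u1 * f) := by rw [h.vt]; group
          _ = _ := by rw [← cu]; group
      rw [h2] at e1
      have e2 : F.t * f * F.t * f = 1 := mul_eq_right.1 e1.symm
      calc f * F.t * (f * F.t) = F.t⁻¹ * (F.t * f * F.t * f) * F.t := by group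
        _ = 1 := by rw [e2]; group
    have hf0 := e.fix hw ft
    have o : F.Om (F.t * f) := by
      refine (c.omW1 (mul_mem (subset_closure (by simp)) (F.X1W1 (F.F0X1 hf0)))).2 ?_
      rw [← mul_assoc, F.tt, one_mul]
      exact F.F0X1 hf0
    obtain ⟨s, hs, es⟩ := e.tr hf0 o
    refine ⟨s, hs, ?_⟩
    rw [ey, ← es, mul_assoc s, mul_assoc F.t, ← cv _ (inv_mem hs)]
    group

/-- the case of an element normalising `Σ` -/
theorem EK.d_key (h : F.EK F.u1 g v d1 d2) {k : G} (h2 : P2 k) (hS : k ∈ 𝐍(F.Z0 g v ⊔ zpowers F.t))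
    (hD : k ∈ 𝐍(closure ({F.v1, F.v2, F.u1} : Set G))) (hr : k ∈ centralizer {F.t * v}) :
    k ∈ closure ({F.t * v, F.v1, F.v2} : Set G) := by
  have e := h.toEE
  obtain ⟨s, hs, es⟩ := h.d_om (conj_mem_of_mem_normalizer hS (mem_sup_right (mem_zpowers F.t))) (F.om_t.cj k)
  obtain ⟨m, hm⟩ : ∃ m, m = s⁻¹ * k := ⟨_, rfl⟩
  have ek : k = s * m := by rw [hm, mul_inv_cancel_left]
  have mt : m * F.t = F.t * m := by
    calc m * F.t = s⁻¹ * (k * F.t * k⁻¹) * k := by rw [hm]; group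
      _ = F.t * m := by rw [← es, hm]; group
  have mD : m ∈ 𝐍(closure ({F.v1, F.v2, F.u1} : Set G)) :=
    hm ▸ mul_mem (inv_mem (centralizer_le_normalizer _ (h.d_ZC hs))) hD
  have mN : m ∈ 𝐍(F.T) := by
    rw [F.d_T, ← cj_eq_self_iff, cj_sup, cj_eq_self_iff.2 mD, cj_zpowers, mt, mul_inv_cancel_right]
  have m2 : P2 m := P2.of_mem (isP_sup h.d_isP h2 hS)
    (hm ▸ mul_mem_sup (mem_sup_left (inv_mem hs)) (mem_zpowers k))
  have mT := F.p2T mt mN m2
  have hP : closure ({F.t * v, F.v1, F.v2} : Set G) ≤ centralizer {F.t * v} := by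
    rw [h.d_P]
    exact sup_le (fun x hx => mem_centralizer_singleton_iff.2 (mem_centralizer_iff_commute.1 h.d_rC x hx))
      (zpowers_le.2 (mem_centralizer_singleton_iff.2 rfl))
  have fin : ∀ s ∈ F.Z0 g v, ∀ p ∈ closure ({F.t * v, F.v1, F.v2} : Set G), k = s * p →
      k ∈ closure ({F.t * v, F.v1, F.v2} : Set G) := by
    intro s hs p hp ek
    have h1 : s * (F.t * v) = F.t * v * s :=
      mem_centralizer_singleton_iff.1 ((mul_mem_cancel_right (hP hp)).1 (ek ▸ hr))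
    have cv : s * v = v * s := mem_centralizer_iff_commute.1 (e.b_Zab e.b_vZ) s hs
    rw [mul_assoc F.t, ← cv, ← mul_assoc, ← mul_assoc, mul_left_inj] at h1
    rw [ek]
    refine mul_mem ?_ hp
    rw [h.d_P]
    exact mem_sup_left (F.d_F0D (e.fix hs h1))
  rw [F.d_T] at mT
  rcases (mem_adj (centralizer_le_normalizer _ F.d_tC) (F.tt ▸ one_mem _)).1 mT with h1 | h1
  · exact fin s hs m (h.d_P ▸ mem_sup_left h1) ek
  · refine fin (s * v) (mul_mem hs e.b_vZ) (m * F.t⁻¹ * (F.t * v)⁻¹) ?_ ?_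
    · rw [h.d_P]
      exact mul_mem_sup h1 (inv_mem (mem_zpowers _))
    · have cv := mem_centralizer_iff_commute.1 h.vT _ h1
      have ti := inv_self F.tt
      calc k = s * (m * F.t⁻¹) * F.t := by rw [ek]; group
        _ = s * (m * F.t⁻¹ * v) * (F.t * v)⁻¹ := by
          rw [mul_inv_rev, ← ti, inv_inv, ti]; group
        _ = _ := by rw [cv]; group

theorem EK.sylr (h : F.EK F.u1 g v d1 d2) (c : F.CA) :
    IsSylowIn 2 (closure ({F.t * v, F.v1, F.v2} : Set G)) (centralizer {F.t * v}) := by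
  have : Fact (Nat.Prime 2) := ⟨Nat.prime_two⟩
  have hr : F.t * v ∈ closure ({F.t * v, F.v1, F.v2} : Set G) := subset_closure (by simp)
  have hP : closure ({F.t * v, F.v1, F.v2} : Set G) ≤ centralizer {F.t * v} := by
    rw [h.d_P]
    exact sup_le (fun x hx => mem_centralizer_singleton_iff.2 (mem_centralizer_iff_commute.1 h.d_rC x hx))
      (zpowers_le.2 (mem_centralizer_singleton_iff.2 rfl))
  refine isSylowIn_of_normalizer hP ⟨le_inf hP le_normalizer, h.d_isPP, fun R h1 h2 h3 => le_antisymm ?_ h1⟩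
  have hRD : R ≤ 𝐍(closure ({F.v1, F.v2, F.u1} : Set G)) := by
    refine le_normalizer_of_cj_le fun k hk => ?_
    rw [cj_le_iff, closure_le]
    have key : ∀ a ∈ closure ({F.t * v, F.v1, F.v2} : Set G), a * a = 1 →
        a ∈ closure ({F.v1, F.v2, F.u1} : Set G) ^ᶜ k⁻¹ := by
      intro a ha aa
      rw [mem_cj, inv_inv]
      refine h.d_inv c (conj_mem_of_mem_normalizer (h2 hk).2 ha) ?_
      calc k * a * k⁻¹ * (k * a * k⁻¹) = k * (a * a) * k⁻¹ := by group
        _ = 1 := by rw [aa]; group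
    rintro a (rfl | rfl | rfl)
    · exact key _ (subset_closure (by simp)) F.v11
    · exact key _ (subset_closure (by simp)) F.v22
    · exact key _ (h.d_rr ▸ mul_mem hr hr) F.u11
  have hRC := le_normalizer_centralizer hRD
  obtain ⟨S, hS, hRS⟩ := exists_isSylowIn_le h3 (le_sup_right : R ≤ 𝐂(closure ({F.v1, F.v2, F.u1} : Set G)) ⊔ R)
  have hS' := hS.inf_normal le_sup_left (sup_le le_normalizer hRC)
  obtain ⟨x, hx, ex⟩ := h.d_syl.conj hS'
  have hrS : F.t * v ∈ (F.Z0 g v ⊔ zpowers F.t) ^ᶜ x := ex ▸ ⟨hRS (h1 hr), h.d_rC⟩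
  have xu : F.u1 * x = x * F.u1 := mem_centralizer_iff_commute.1 hx _ (subset_closure (by simp))
  obtain ⟨s, hs, es⟩ := h.d_root c (mem_cj.1 hrS) (by
    calc x⁻¹ * (F.t * v) * x * (x⁻¹ * (F.t * v) * x) = x⁻¹ * (F.t * v * (F.t * v) * x) := by group
      _ = F.u1 := by rw [h.d_rr, xu]; group)
  obtain ⟨y, hy⟩ : ∃ y, y = x * s := ⟨_, rfl⟩
  have yC : y ∈ 𝐂(closure ({F.v1, F.v2, F.u1} : Set G)) := hy ▸ mul_mem hx (h.d_ZC hs)
  have yr : y ∈ centralizer {F.t * v} := by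
    rw [mem_centralizer_singleton_iff]
    calc y * (F.t * v) = x * (s * (F.t * v) * s⁻¹) * s := by rw [hy]; group
      _ = F.t * v * y := by rw [es, hy]; group
  have yP : y ∈ 𝐂(closure ({F.t * v, F.v1, F.v2} : Set G)) := by
    rw [h.d_P, centralizer_sup, centralizer_zpowers]
    exact ⟨yC, yr⟩
  have ey : (F.Z0 g v ⊔ zpowers F.t) ^ᶜ y = S ⊓ 𝐂(closure ({F.v1, F.v2, F.u1} : Set G)) := by
    rw [hy, ← cj_cj, cj_eq_of_mem (mem_sup_left hs), ex]
  intro k hk
  have hk' : y⁻¹ * k * y ∈ closure ({F.t * v, F.v1, F.v2} : Set G) := by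
    refine h.d_key (by simpa using (P2.of_mem h3 hk).conj y⁻¹) ?_ ?_ ?_
    · rw [← mem_cj, cj_normalizer, ey]
      exact le_normalizer_inf (hRS.trans le_normalizer) hRC hk
    · exact mul_mem (mul_mem (inv_mem (centralizer_le_normalizer _ yC)) (hRD hk)) (centralizer_le_normalizer _ yC)
    · exact mul_mem (mul_mem (inv_mem yr) (h2 hk).1) yr
  rwa [← mem_cj, cj_eq_of_mem_centralizer yP] at hk'

theorem d_index (F : Fr G) {N : Subgroup G} (h2 : N.index = 2) (hN : N.Normal) : F.E ≤ N := by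
  have := F.Es
  rcases (hN.subgroupOf F.E).eq_bot_or_eq_top with h | h
  · exfalso
    apply F.ncE
    intro a ha
    rw [mem_centralizer_iff_commute]
    intro b hb
    have h1 : b * a * b⁻¹ * a⁻¹ ∈ N := by
      simp only [mul_mem_iff_of_index_two h2, inv_mem_iff]
      tauto
    have h3 : (⟨b * a * b⁻¹ * a⁻¹, F.comm_mem b a⟩ : F.E) ∈ N.subgroupOf F.E := h1
    rw [h, mem_bot] at h3
    have h4 : b * a * b⁻¹ * a⁻¹ = 1 := congrArg Subtype.val h3
    calc b * a = b * a * b⁻¹ * a⁻¹ * (a * b) := by group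
      _ = a * b := by rw [h4, one_mul]
  · exact subgroupOf_eq_top.1 h

theorem EK.vE (h : F.EK u0 g v d1 d2) : v ∈ F.E := by
  have : Fact (Nat.Prime 2) := ⟨Nat.prime_two⟩
  rcases h.cs with ⟨-, rfl, -⟩ | ⟨rfl, c⟩
  · exact one_mem _
  have e := h.toEE
  have r4 : (F.t * v) ^ 2 = F.u1 := by rw [pow_two, h.d_rr]
  have ho : orderOf (F.t * v) = 2 ^ 2 := by
    refine orderOf_eq_prime_pow (n := 1) (by rw [pow_one, r4]; exact c.u1) ?_
    rw [pow_succ, pow_mul, pow_one, r4, pow_two, F.u11]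
  have hcard : Nat.card ↥(F.U g v d1 d2 ⊔ zpowers F.t) = 2 * Nat.card (F.U g v d1 d2) :=
    card_adj h.tN (F.tt ▸ one_mem _) h.tU
  have c16 : Nat.card (F.Z0 g v) = 16 := by
    rcases e.cardZ0 with ⟨hv, -⟩ | ⟨-, -, h16⟩
    · exfalso
      have := h.vt
      rw [hv, one_mul, mul_one] at this
      exact c.u1 (left_eq_mul.1 this)
    · exact h16
  obtain ⟨N, hN, hi, hr⟩ := H73.exists_index_two_of_transfer (F.U g v d1 d2 ⊔ zpowers F.t) (F.U g v d1 d2)
    (by
      have := h.syl.not_dvd_relIndex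
      rw [relIndex_top_right] at this
      exact Nat.odd_iff.2 (by omega))
    (by
      have h1 := (F.U g v d1 d2).subgroupOf (F.U g v d1 d2 ⊔ zpowers F.t) |>.card_mul_index
      rw [card_subgroupOf le_sup_left, hcard, mul_comm 2] at h1
      exact Nat.eq_of_mul_eq_mul_left Nat.card_pos h1)
    (F.t * v) ho
    (by
      intro a ha
      have h1 : F.Z0 g v ^ᶜ a⁻¹ ≤ centralizer {F.t * v} := by
        rw [← le_cj_iff, cj_centralizer_singleton]
        exact fun x hx => mem_centralizer_singleton_iff.2 (mem_centralizer_iff_commute.1 (e.b_UC ha) x hx)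
      have hz : IsPGroup 2 (F.Z0 g v) := isP_of_P2 fun x hx => P2.of_sq (e.sqZ0 hx)
      obtain ⟨b, -, hb⟩ := (h.sylr c).exists_cj_le (isPGroup_cj hz _) h1
      rw [cj_cj] at hb
      have sq : ∀ x ∈ F.Z0 g v ^ᶜ (b * a⁻¹), x * x = 1 := by
        intro x hx
        obtain ⟨y, hy, rfl⟩ := mem_cj'.1 hx
        calc b * a⁻¹ * y * (b * a⁻¹)⁻¹ * (b * a⁻¹ * y * (b * a⁻¹)⁻¹) = b * a⁻¹ * (y * y) * (b * a⁻¹)⁻¹ := by group
          _ = 1 := by rw [e.sqZ0 hy]; group
      have hD : F.Z0 g v ^ᶜ (b * a⁻¹) ≤ closure ({F.v1, F.v2, F.u1} : Set G) := fun x hx =>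
        h.d_inv c (hb hx) (sq x hx)
      have f4 : Nat.card F.F0 = 4 := by
        rcases F.cardF0 with ⟨h1, -⟩ | ⟨-, h4⟩
        · exact absurd h1 c.u1
        · exact h4
      apply F.d_tD
      apply hD
      rcases F.eaT (hD.trans (F.d_T ▸ le_sup_left)) sq with h3 | h3
      · rw [eq_of_le_of_card_ge h3 (by rw [card_cj, c16, F.cardW1, f4])]
        exact subset_closure (by simp)
      · rw [eq_of_le_of_card_ge h3 (by rw [card_cj, c16, ← F.sw_W1, F.sw.cardW1, F.sw_F0, f4])]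
        exact subset_closure (by simp))
    (by
      intro a i h1 h2 ha _
      obtain rfl | rfl : i = 1 ∨ i = 2 := by omega
      · rw [pow_one, r4] at ha ⊢
        rcases (mem_adj h.tN (F.tt ▸ one_mem _)).1 ha with h3 | h3
        · exact h3
        · exfalso
          have hx : F.t * (a * F.u1 * a⁻¹) ∈ F.U g v d1 d2 := by
            have := conj_mem_of_mem_normalizer h.tN h3
            rwa [inv_self F.tt, mul_assoc, mul_assoc _ F.t, F.tt, mul_one] at this
          have ex : F.t * (F.t * (a * F.u1 * a⁻¹)) = a * F.u1 * a⁻¹ := by rw [← mul_assoc, F.tt, one_mul]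
          obtain ⟨k, -, f, hf, ek⟩ := h.invt hx (by
            rw [ex]
            calc a * F.u1 * a⁻¹ * (a * F.u1 * a⁻¹) = a * (F.u1 * F.u1) * a⁻¹ := by group
              _ = 1 := by rw [F.u11]; group)
          have o : F.Om (F.t * f) := by
            refine (c.omW1 (mul_mem (subset_closure (by simp)) (F.X1W1 (F.F0X1 hf)))).2 ?_
            rw [← mul_assoc, F.tt, one_mul]
            exact F.F0X1 hf
          rw [ex] at ek
          exact c.n1 (Om.of_cj a (ek ▸ o.cj k))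
      · rw [← ho, pow_orderOf_eq_one]
        simp)
  rcases F.top v with h1 | h1
  · exact h1
  · exfalso
    apply hr
    have := F.d_index hi hN (inv_mem h1)
    rwa [mul_inv_rev, inv_self F.tt, inv_self h.vv] at this

end Fr

end H60M.A7
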