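import Mathlib
import Cfsg.Agent.Lib.B7S.Y3
import Cfsg.Agent.Lib.B7S.HC

/-! The Held case: the choice of `P`. -/

set_option autoImplicit false

namespace H60M.A7

open Subgroup H69 H36.SW

variable {G : Type*} [Group G] [Finite G]

omit [Finite G] in
theorem HE_cjm (x a b : G) : x * (a * b) * x⁻¹ = (x * a * x⁻¹) * (x * b * x⁻¹) := by group

omit [Finite G] in
theorem HE_cj_cl {S : Set G} {x : G} {L : Subgroup G} (h : ∀ s ∈ S, x * s * x⁻¹ ∈ L) : closure S ^ᶜ x ≤ L := by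
  rw [cj_le_iff, closure_le]
  intro s hs
  show s ∈ L ^ᶜ x⁻¹
  rw [mem_cj, inv_inv]
  exact h s hs

omit [Finite G] in
theorem HE_comm {P Y : Subgroup G} (hc : P ≤ 𝐂(Y)) (sq : ∀ x ∈ P, x * x ∈ Y) {x y : G} (hx : x ∈ P) (hy : y ∈ P) :
    x * y * x⁻¹ * y⁻¹ ∈ Y := by
  have c : x * x * y = y * (x * x) := mem_centralizer_iff_commute.1 (hc hy) _ (sq x hx)
  have e : x * y * x⁻¹ * y⁻¹ = (x * y * (x * y)) * (x * x)⁻¹ * (y * y)⁻¹ := by
    calc x * y * x⁻¹ * y⁻¹ = (x * y * (x * y)) * (x * x)⁻¹ * (x * x * y⁻¹ * (x * x)⁻¹) * y⁻¹ := by group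
      _ = (x * y * (x * y)) * (x * x)⁻¹ * (y⁻¹ * (y * (x * x)) * y⁻¹ * (x * x)⁻¹) * y⁻¹ := by group
      _ = _ := by rw [← c]; group
  rw [e]
  exact mul_mem (mul_mem (sq _ (mul_mem hx hy)) (inv_mem (sq x hx))) (inv_mem (sq y hy))

namespace Fr
variable {F : Fr G} {g d v η h : G}

theorem HB.HE_YU (_b : F.HB g d v η h) : F.Y v ≤ F.U1 g d v := by
  rw [Y, closure_le]
  rintro s (rfl | rfl | rfl | rfl) <;> exact subset_closure (by simp)

theorem HB.HE_XY (b : F.HB g d v η h) : F.X1 ≤ F.Y v := fun _ hx => b.memY.2 (Or.inl hx)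

theorem HB.HE_UC (b : F.HB g d v η h) : F.U1 g d v ≤ 𝐂(F.Y v) := by
  have YC : F.Y v ≤ 𝐂(F.Y v) := fun x hx =>
    mem_centralizer_iff_commute.2 fun a ha => comm_of_sq (fun _ m => b.sqY m) ha hx
  rw [U1, closure_le]
  rintro s (rfl | rfl | rfl | rfl | rfl | rfl)
  · exact YC (subset_closure (by simp))
  · exact YC (subset_closure (by simp))
  · exact YC (subset_closure (by simp))
  · exact YC (subset_closure (by simp))
  · exact b.CY.1
  · exact b.CY.2.1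

/-- a first choice of `P` -/
theorem HB.HE_P (b : F.HB g d v η h)
    (h0 : ∃ P : Subgroup G, IsSylowIn 2 P 𝐂(F.Y v) ∧ Nat.card P = 256 ∧ ∀ x ∈ P, x * x ∈ F.Y v) :
    ∃ P : Subgroup G, IsSylowIn 2 P 𝐂(F.Y v) ∧ Nat.card P = 256 ∧ (∀ x ∈ P, x * x ∈ F.Y v) ∧
      F.U1 g d v ≤ P ∧ F.t ∈ 𝐍(P) ∧ F.v2 ∈ 𝐍(P) ∧ h ∈ 𝐍(P) := by
  obtain ⟨P0, s0, c0, q0⟩ := h0
  obtain ⟨Z, hZ⟩ : ∃ Z, Z = closure ({F.t, F.v1, F.v2, g, d, v, h} : Set G) := ⟨_, rfl⟩
  have ZN : Z ≤ 𝐍(F.Y v) := by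
    rw [hZ, closure_le]
    rintro s (rfl | rfl | rfl | rfl | rfl | rfl | rfl)
    · exact b.NY.1
    · exact le_normalizer (subset_closure (by simp))
    · exact b.NY.2.1
    · exact centralizer_le_normalizer _ b.CY.1
    · exact centralizer_le_normalizer _ b.CY.2.1
    · exact le_normalizer (subset_closure (by simp))
    · exact b.NY.2.2.1
  obtain ⟨S, hS, ZS⟩ := exists_isSylowIn_le (hZ ▸ b.isP : IsPGroup 2 Z) ZN
  have s1 := hS.inf_normal (centralizer_le_normalizer _) (normalizer_le_normalizer_centralizer (F.Y v))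
  obtain ⟨c, hc, e⟩ := s0.conj s1
  have SN : S ≤ 𝐍((S ⊓ 𝐂(F.Y v) : Subgroup G)) :=
    le_normalizer_inf le_normalizer (hS.le.trans (normalizer_le_normalizer_centralizer _))
  have tZ : F.t ∈ Z := hZ ▸ subset_closure (by simp)
  have v1Z : F.v1 ∈ Z := hZ ▸ subset_closure (by simp)
  have v2Z : F.v2 ∈ Z := hZ ▸ subset_closure (by simp)
  have hZ' : h ∈ Z := hZ ▸ subset_closure (by simp)
  have zZ : F.z ∈ Z := F.hz ▸ mul_mem (mul_mem (mul_mem v1Z v2Z) v1Z) v2Z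
  refine ⟨_, s1, s1.card_eq s0 ▸ c0, ?_, le_inf (le_trans ?_ ZS) b.HE_UC, SN (ZS tZ), SN (ZS v2Z), SN (ZS hZ')⟩
  · intro x hx
    rw [← e] at hx
    obtain ⟨a, ha, rfl⟩ := mem_cj'.1 hx
    rw [← HE_cjm, conj_eq_of_mem_centralizer hc (q0 a ha)]
    exact q0 a ha
  · rw [U1, closure_le]
    rintro s (rfl | rfl | rfl | rfl | rfl | rfl)
    · exact zZ
    · exact v1Z
    · exact b.hz ▸ mul_mem (mul_mem hZ' zZ) (inv_mem hZ')
    · exact hZ ▸ subset_closure (by simp)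
    · exact hZ ▸ subset_closure (by simp)
    · exact hZ ▸ subset_closure (by simp)

/-- the conjugates of `t` under `P` lie in `t U1` -/
theorem HB.HE_tp (b : F.HB g d v η h) {P : Subgroup G} (s : IsSylowIn 2 P 𝐂(F.Y v)) (sq : ∀ x ∈ P, x * x ∈ F.Y v)
    (UP : F.U1 g d v ≤ P) (tN : F.t ∈ 𝐍(P)) {p : G} (hp : p ∈ P) : ∃ c ∈ F.U1 g d v, p * F.t * p⁻¹ = F.t * c := by
  have ti : F.t⁻¹ = F.t := inv_eq_of_mul_eq_one_right F.tt
  obtain ⟨c, hc⟩ : ∃ c, c = F.t * p * F.t⁻¹ * p⁻¹ := ⟨_, rfl⟩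
  have cP : c ∈ P := hc ▸ mul_mem (conj_mem_of_mem_normalizer tN hp) (inv_mem hp)
  have e1 : p * F.t * p⁻¹ = F.t * c := by
    rw [hc, ti]
    calc p * F.t * p⁻¹ = (F.t * F.t) * p * F.t * p⁻¹ := by rw [F.tt, one_mul]
      _ = _ := by group
  have e2 : F.t * c * F.t = c⁻¹ := by
    have := cjsq F.tt p
    rw [e1] at this
    exact eq_inv_of_mul_eq_one_left (by rw [← this]; group)
  have e3 : c * F.t * c⁻¹ = F.t * (c * c)⁻¹ := by
    calc c * F.t * c⁻¹ = (F.t * F.t) * c * F.t * c⁻¹ := by rw [F.tt, one_mul]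
      _ = F.t * (F.t * c * F.t) * c⁻¹ := by group
      _ = _ := by rw [e2]; group
  have yY : (c * c)⁻¹ ∈ F.Y v := inv_mem (sq c cP)
  have yX : (c * c)⁻¹ ∈ F.X1 := by
    refine b.Ct (s.le (inv_mem (mul_mem cP cP))) ?_ (P2.of_sq (b.sqY yY))
    have a1 := cjsq F.tt c
    rw [e3] at a1
    have a2 := b.sqY yY
    generalize (c * c)⁻¹ = y at a1 a2
    calc y * F.t = (F.t * F.t) * y * F.t * (y * y) := by rw [F.tt, a2]; group
      _ = F.t * (F.t * y * (F.t * y)) * y := by group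
      _ = _ := by rw [a1]; group
  obtain ⟨x, hx, ex⟩ := b.trX yX
  refine ⟨c, ?_, e1⟩
  have m : x⁻¹ * c ∈ P := mul_mem (inv_mem (UP hx)) cP
  have : x⁻¹ * c ∈ F.X1 := by
    refine b.Ct (s.le m) ?_ (P2.of_mem s.isP m)
    calc x⁻¹ * c * F.t = x⁻¹ * (c * F.t * c⁻¹) * c := by group
      _ = _ := by rw [e3, ← ex]; group
  have e : c = x * (x⁻¹ * c) := by group
  rw [e]
  exact mul_mem hx (b.HE_YU (b.HE_XY this))

/-- `P` is transitive on the involutions of `t U1` -/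
theorem HB.HE_tr (b : F.HB g d v η h) {P : Subgroup G} (s : IsSylowIn 2 P 𝐂(F.Y v)) (cd : Nat.card P = 256)
    (sq : ∀ x ∈ P, x * x ∈ F.Y v) (UP : F.U1 g d v ≤ P) (tN : F.t ∈ 𝐍(P)) {c : G} (hc : c ∈ F.U1 g d v)
    (h2 : F.t * c * (F.t * c) = 1) : ∃ p ∈ P, p * F.t * p⁻¹ = F.t * c := by
  have cX : Nat.card F.X1 = 8 := by
    rcases F.cardF0 with ⟨e, -⟩ | ⟨-, e⟩
    · exact absurd e b.ca.u1
    · rw [F.cardX1, e]
  obtain ⟨D, hD⟩ : ∃ D : G → Set G, D = fun a => (fun x => F.t * (a * x)) '' (F.X1 : Set G) := ⟨_, rfl⟩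
  have cD : ∀ a, (D a).ncard ≤ 8 := by
    intro a
    rw [hD, ← cX]
    exact (Set.ncard_image_le (Set.toFinite _)).trans (le_of_eq (Nat.card_coe_set_eq _).symm)
  have mD : ∀ a x, a⁻¹ * x ∈ F.X1 → F.t * x ∈ D a := by
    intro a x m
    rw [hD]
    exact ⟨_, m, by simp⟩
  have sub : ∀ x ∈ F.U1 g d v, F.t * x * (F.t * x) = 1 →
      F.t * x ∈ D 1 ∪ D (g * v) ∪ D (d * v) ∪ D (g * d * v) := by
    intro x hx e
    rcases b.invU1 hx e with m | m | m | m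
    · exact Or.inl (Or.inl (Or.inl (mD _ _ (by simpa using m))))
    · exact Or.inl (Or.inl (Or.inr (mD _ _ m)))
    · exact Or.inl (Or.inr (mD _ _ m))
    · exact Or.inr (mD _ _ m)
  have c32 : (D 1 ∪ D (g * v) ∪ D (d * v) ∪ D (g * d * v)).ncard ≤ 32 := by
    have a1 := Set.ncard_union_le (D 1 ∪ D (g * v) ∪ D (d * v)) (D (g * d * v))
    have a2 := Set.ncard_union_le (D 1 ∪ D (g * v)) (D (d * v))
    have a3 := Set.ncard_union_le (D 1) (D (g * v))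
    have := cD 1; have := cD (g * v); have := cD (d * v); have := cD (g * d * v)
    omega
  have o := card_orbit F.t P
  have c8 : Nat.card (P ⊓ centralizer {F.t} : Subgroup G) ≤ 8 := by
    rw [← cX]
    apply card_le_of_le
    rintro x ⟨hx, hc⟩
    exact b.Ct (s.le hx) (mem_centralizer_singleton_iff.1 hc) (P2.of_mem s.isP hx)
  have ss : {s | ∃ n ∈ P, n * F.t * n⁻¹ = s} ⊆ D 1 ∪ D (g * v) ∪ D (d * v) ∪ D (g * d * v) := by
    rintro _ ⟨p, hp, rfl⟩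
    obtain ⟨x, hx, e⟩ := b.HE_tp s sq UP tN hp
    have := cjsq F.tt p
    rw [e] at this ⊢
    exact sub x hx this
  have le : (D 1 ∪ D (g * v) ∪ D (d * v) ∪ D (g * d * v)).ncard ≤ Set.ncard {s | ∃ n ∈ P, n * F.t * n⁻¹ = s} := by
    rw [cd] at o
    by_contra lt
    have l2 : Set.ncard {s | ∃ n ∈ P, n * F.t * n⁻¹ = s} ≤ 31 := by omega
    have := Nat.mul_le_mul l2 c8
    omega
  have := Set.eq_of_subset_of_ncard_le ss le (Set.toFinite _)
  have m := sub c hc h2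
  rw [← this] at m
  exact m

theorem HB.hp (b : F.HB g d v η h)
    (h0 : ∃ P : Subgroup G, IsSylowIn 2 P 𝐂(F.Y v) ∧ Nat.card P = 256 ∧ ∀ x ∈ P, x * x ∈ F.Y v) :
    ∃ P θ e, F.HP g d v η h P θ e := by
  obtain ⟨P, s, cd, sq, UP, tN, v2N, hN⟩ := b.HE_P h0
  have ti : F.t⁻¹ = F.t := inv_eq_of_mul_eq_one_right F.tt
  have YU := b.HE_YU
  have XY := b.HE_XY
  have gU : g ∈ F.U1 g d v := subset_closure (by simp)
  have dU : d ∈ F.U1 g d v := subset_closure (by simp)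
  have vY : v ∈ F.Y v := subset_closure (by simp)
  have tW : F.t ∈ F.W1 := subset_closure (by simp)
  have zW : F.z ∈ F.W1 := subset_closure (by simp)
  have v1W : F.v1 ∈ F.W1 := subset_closure (by simp)
  have uW : F.u1 ∈ F.W1 := subset_closure (by simp)
  have Ct : ∀ p ∈ P, p * F.t = F.t * p → p ∈ F.X1 := fun p hp c => b.Ct (s.le hp) c (P2.of_mem s.isP hp)
  obtain ⟨Q, hQ⟩ : ∃ Q, Q = F.U1 g d v ⊔ zpowers F.t := ⟨_, rfl⟩
  have UQ : F.U1 g d v ≤ Q := hQ ▸ le_sup_left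
  have tQ : F.t ∈ Q := hQ ▸ mem_sup_right (mem_zpowers _)
  have Q2 : IsPGroup 2 Q := hQ ▸ isP_sup (s.isP.to_le UP) (P2.of_sq F.tt) b.NU1.1
  have nQ : ∀ {x : G}, x ∈ 𝐍(F.U1 g d v) → x * F.t * x⁻¹ ∈ Q → x ∈ 𝐍(Q) := by
    intro x h1 h2
    apply mem_normalizer_of_cj_le
    conv_lhs => rw [hQ, cj_sup, cj_eq_of_mem_normalizer h1, cj_zpowers]
    exact sup_le UQ (zpowers_le.2 h2)
  have PU : P ≤ 𝐍(F.U1 g d v) := by
    intro p hp
    apply mem_normalizer_of_cj_le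
    intro x hx
    obtain ⟨a, ha, rfl⟩ := mem_cj'.1 hx
    have := mul_mem (YU (HE_comm s.le sq hp (UP ha))) ha
    rwa [inv_mul_cancel_right] at this
  have PQ : P ≤ 𝐍(Q) := by
    intro p hp
    obtain ⟨c, hc, e⟩ := b.HE_tp s sq UP tN hp
    exact nQ (PU hp) (e ▸ mul_mem tQ (UQ hc))
  have ηt : η * F.t * η⁻¹ = F.t := by rw [b.tr.act tW, F.y1t, mul_inv_cancel_right]
  have ηQ : η ∈ 𝐍(Q) := nQ b.NU1.2.2.1 (ηt.symm ▸ tQ)
  have WQ : F.W1 ≤ Q := by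
    rw [W1, closure_le]
    rintro x (rfl | rfl | rfl | rfl)
    · exact tQ
    all_goals exact UQ (subset_closure (by simp))
  have cW : ∀ {x : G}, x ∈ 𝐂(F.X1) → x * F.t * x⁻¹ ∈ F.W1 → x ∈ 𝐍(F.W1) := by
    intro x h1 h2
    apply mem_normalizer_of_cj_le
    apply HE_cj_cl
    rintro y (rfl | rfl | rfl | rfl)
    · exact h2
    · rw [conj_eq_of_mem_centralizer h1 (subset_closure (by simp))]; exact zW
    · rw [conj_eq_of_mem_centralizer h1 (subset_closure (by simp))]; exact v1W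
    · rw [conj_eq_of_mem_centralizer h1 (subset_closure (by simp))]; exact uW
  have QW : Q ≤ 𝐍(F.W1) := by
    rw [hQ]
    refine sup_le ?_ (zpowers_le.2 (le_normalizer tW))
    rw [U1, closure_le]
    rintro x (rfl | rfl | rfl | rfl | rfl | rfl)
    · exact le_normalizer zW
    · exact le_normalizer v1W
    · exact le_normalizer uW
    · exact cW b.tr.vX (b.tr.vt ▸ mul_mem tW uW)
    · exact cW b.tr.gX (b.tr.gt ▸ mul_mem tW zW)
    · exact cW b.tr.dX (b.tr.dt ▸ mul_mem tW v1W)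
  obtain ⟨O, hO, dec, NO⟩ := F.exO1
  have Oodd : ∀ o ∈ O, Odd (orderOf o) := fun o ho => ((hO o).1 ho).2
  -- Sylow argument in `L`
  have ηC : η ∈ 𝐍(𝐂(F.Y v)) := normalizer_le_normalizer_centralizer _ b.NY.2.2.2
  have sL : IsSylowIn 2 P (𝐂(F.Y v) ⊓ 𝐍(Q)) := s.mono (le_inf s.le PQ) inf_le_left
  have ηL : η ∈ 𝐍((𝐂(F.Y v) ⊓ 𝐍(Q) : Subgroup G)) :=
    le_normalizer_inf (L := zpowers η) (zpowers_le.2 ηC) (zpowers_le.2 (le_normalizer ηQ)) (mem_zpowers η)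
  obtain ⟨l, ⟨lC, lQ⟩, el⟩ := (sL.cj_of_mem_normalizer ηL).conj sL
  rw [cj_cj, cj_eq_self_iff] at el
  obtain ⟨p, hp, ep⟩ : ∃ p ∈ P, p * F.t * p⁻¹ = l * F.t * l⁻¹ := by
    have m := conj_mem_of_mem_normalizer lQ tQ
    rw [hQ, mem_adj b.NU1.1 (by rw [F.tt]; exact one_mem _)] at m
    rcases m with m | m
    · exact absurd ⟨l, rfl⟩ (b.nOm (b.HE_UC m))
    · have e : l * F.t * l⁻¹ = F.t * (F.t⁻¹ * (l * F.t * l⁻¹ * F.t⁻¹) * F.t) := by group
      rw [e]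
      refine b.HE_tr s cd sq UP tN (conj_mem_of_mem_normalizer' b.NU1.1 m) ?_
      rw [← e]; exact cjsq F.tt l
  have plC : p⁻¹ * l ∈ 𝐂(F.Y v) := mul_mem (inv_mem (s.le hp)) lC
  have plt : p⁻¹ * l * F.t = F.t * (p⁻¹ * l) := by
    calc p⁻¹ * l * F.t = p⁻¹ * (l * F.t * l⁻¹) * l := by group
      _ = _ := by rw [← ep]; group
  have plW : p⁻¹ * l ∈ 𝐂(F.W1) := by
    rw [mem_centralizer_iff_commute]
    intro a ha
    rcases F.memW1'.1 ha with m | m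
    · exact mem_centralizer_iff_commute.1 plC _ (XY m)
    · have c := mem_centralizer_iff_commute.1 plC _ (XY m)
      apply mul_left_cancel (a := F.t)
      rw [← mul_assoc, c, ← mul_assoc, plt, mul_assoc]
  obtain ⟨w, hw, o, ho, eo⟩ := dec _ plW
  have oQ : o ∈ 𝐂(Q) := by
    refine odd_norm_cent Q2 Oodd (QW.trans NO) ho ?_
    have : o = w⁻¹ * (p⁻¹ * l) := by rw [eo]; group
    rw [this]
    exact mul_mem (inv_mem (le_normalizer (WQ hw))) (mul_mem (inv_mem (PQ hp)) lQ)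
  have wP : w ∈ P := by
    have c : w ∈ 𝐂(F.Y v) := by
      have : w = (p⁻¹ * l) * o⁻¹ := by rw [eo]; group
      rw [this]
      exact mul_mem plC (inv_mem (centralizer_anti (YU.trans UQ) oQ))
    exact UP (YU (XY (b.Ct c (comm_of_sq (fun _ m => F.sqW1 m) hw tW) (P2.of_sq (F.sqW1 hw)))))
  obtain ⟨θ, hθ⟩ : ∃ θ, θ = o * η := ⟨_, rfl⟩
  have θN : θ ∈ 𝐍(P) := by
    have : θ = w⁻¹ * p⁻¹ * (l * η) := by
      rw [hθ]
      calc o * η = w⁻¹ * (w * o) * η := by group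
        _ = _ := by rw [← eo]; group
    rw [this]
    exact mul_mem (le_normalizer (mul_mem (inv_mem wP) (inv_mem hp))) el
  have θa : ∀ x ∈ Q, θ * x * θ⁻¹ = η * x * η⁻¹ := by
    intro x hx
    calc θ * x * θ⁻¹ = o * (η * x * η⁻¹) * o⁻¹ := by rw [hθ]; group
      _ = _ := conj_eq_of_mem_centralizer oQ (conj_mem_of_mem_normalizer ηQ hx)
  have θO : θ ^ 3 ∈ O := by
    obtain ⟨o0, h1, h2, e0⟩ := b.tr.hη
    have yO : F.y1 ∈ 𝐍(O) := NO F.y1N
    obtain ⟨o1, ho1, e1⟩ : ∃ o1 ∈ O, θ = o1 * F.y1 :=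
      ⟨o * (F.y1 * o0 * F.y1⁻¹), mul_mem ho (conj_mem_of_mem_normalizer yO ((hO _).2 ⟨h1, h2⟩)), by
        rw [hθ, e0]; group⟩
    have : θ ^ 3 = o1 * (F.y1 * o1 * F.y1⁻¹) * (F.y1 * (F.y1 * o1 * F.y1⁻¹) * F.y1⁻¹) * F.y1 ^ 3 := by
      rw [e1]; simp only [pow_succ, pow_zero]; group
    rw [this]
    exact mul_mem (mul_mem (mul_mem ho1 (conj_mem_of_mem_normalizer yO ho1))
      (conj_mem_of_mem_normalizer yO (conj_mem_of_mem_normalizer yO ho1)))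
      ((hO _).2 ⟨H60M.Y3 F.y1t F.y1u F.y1z F.y1v F.zz F.v11 F.zv1, F.y13.of_dvd_nat (orderOf_pow_dvd 3)⟩)
  have θW : θ ^ 3 ∈ 𝐂(F.W1) := ((hO _).1 θO).1
  have θ3e : ∀ x, θ ^ 3 * x * (θ ^ 3)⁻¹ = θ * (θ * (θ * x * θ⁻¹) * θ⁻¹) * θ⁻¹ := by
    intro x; simp only [pow_succ, pow_zero]; group
  have θg : θ * g * θ⁻¹ = d := (θa g (UQ gU)).trans b.tr.ηg
  have θd : θ * d * θ⁻¹ = (g * d)⁻¹ := (θa d (UQ dU)).trans b.tr.ηd
  have θgd : θ * (g * d)⁻¹ * θ⁻¹ = g := by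
    calc θ * (g * d)⁻¹ * θ⁻¹ = (θ * (g * d) * θ⁻¹)⁻¹ := by group
      _ = g := by rw [HE_cjm, θg, θd]; group
  have θv : θ * v * θ⁻¹ = v := by rw [θa v (UQ (YU vY)), b.tr.ηv, mul_inv_cancel_right]
  have θt : θ * F.t * θ⁻¹ = F.t := (θa _ tQ).trans ηt
  have θQ : ∀ x ∈ Q, θ ^ 3 * x * (θ ^ 3)⁻¹ = x := by
    have : Q ≤ centralizer {θ ^ 3} := by
      have f : ∀ {x : G}, θ ^ 3 * x * (θ ^ 3)⁻¹ = x → x ∈ centralizer ({θ ^ 3} : Set G) := fun e =>
        mem_centralizer_singleton_iff.2 (mul_inv_eq_iff_eq_mul.1 e).symm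
      rw [hQ]
      refine sup_le ?_ (zpowers_le.2 (f (conj_eq_of_mem_centralizer θW tW)))
      rw [U1, closure_le]
      rintro x (rfl | rfl | rfl | rfl | rfl | rfl)
      · exact f (conj_eq_of_mem_centralizer θW zW)
      · exact f (conj_eq_of_mem_centralizer θW v1W)
      · exact f (conj_eq_of_mem_centralizer θW uW)
      · exact f (by rw [θ3e, θv, θv, θv])
      · exact f (by rw [θ3e, θg, θd, θgd])
      · exact f (by rw [θ3e, θd, θgd, θg])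
    intro x hx
    rw [← mem_centralizer_singleton_iff.1 (this hx), mul_inv_cancel_right]
  have θP : θ ^ 3 ∈ 𝐂(P) := by
    refine odd_cent (N := F.X1) (F.isPT.to_le (F.X1W1.trans F.W1T)) (Oodd _ θO) (centralizer_anti F.X1W1 θW) ?_
    intro x hx
    refine Ct _ (mul_mem (inv_mem hx) (conj_mem_of_mem_normalizer (pow_mem θN 3) hx)) ?_
    have a1 := θQ _ (conj_mem_of_mem_normalizer (PQ hx) tQ)
    have a2 := θQ _ tQ
    generalize θ ^ 3 = k at a1 a2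
    calc x⁻¹ * (k * x * k⁻¹) * F.t = x⁻¹ * (k * x * k⁻¹) * (k * F.t * k⁻¹) := by rw [a2]
      _ = x⁻¹ * (k * (x * F.t * x⁻¹) * k⁻¹) * (k * x * k⁻¹) := by group
      _ = _ := by rw [a1]; group
  obtain ⟨d', hd'⟩ : ∃ d', d' = h * d * h⁻¹ := ⟨_, rfl⟩
  have d'P : d' ∈ P := hd' ▸ conj_mem_of_mem_normalizer hN (UP dU)
  obtain ⟨e, he⟩ : ∃ e, e = θ * d' * θ⁻¹ := ⟨_, rfl⟩
  have eP : e ∈ P := he ▸ conj_mem_of_mem_normalizer θN d'P
  refine ⟨P, θ, e, b, s, cd, sq, ?_, tN, v2N, hN, θN, ?_, θP, hd' ▸ he, ?_⟩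
  · rw [← hd']
    obtain ⟨P1, hP1⟩ : ∃ P1, P1 = closure ({F.z, F.v1, F.u1, v, g, d, d', e} : Set G) := ⟨_, rfl⟩
    rw [← hP1]
    have U1P : F.U1 g d v ≤ P1 := by
      rw [hP1, U1, closure_le]
      rintro x (rfl | rfl | rfl | rfl | rfl | rfl) <;> exact subset_closure (by simp)
    have d'1 : d' ∈ P1 := hP1 ▸ subset_closure (by simp)
    have e1 : e ∈ P1 := hP1 ▸ subset_closure (by simp)
    have P1P : P1 ≤ P := by
      rw [hP1, closure_le]
      rintro x (rfl | rfl | rfl | rfl | rfl | rfl | rfl | rfl)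
      · exact UP (subset_closure (by simp))
      · exact UP (subset_closure (by simp))
      · exact UP (subset_closure (by simp))
      · exact UP (subset_closure (by simp))
      · exact UP (subset_closure (by simp))
      · exact UP (subset_closure (by simp))
      · exact d'P
      · exact eP
    refine le_antisymm ?_ P1P
    -- moving inside a coset of `X1`
    have mv : ∀ {a c c' q : G}, q ∈ P1 → q * F.t * q⁻¹ = F.t * c → a⁻¹ * c ∈ F.X1 → a⁻¹ * c' ∈ F.X1 →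
        ∃ q' ∈ P1, q' * F.t * q'⁻¹ = F.t * c' := by
      intro a c c' q hq e1 m1 m2
      have m : c⁻¹ * c' ∈ F.X1 := by
        have := mul_mem (inv_mem m1) m2
        rwa [show (a⁻¹ * c)⁻¹ * (a⁻¹ * c') = c⁻¹ * c' by group] at this
      obtain ⟨x, hx, ex⟩ := b.trX m
      refine ⟨q * x, mul_mem hq (U1P hx), ?_⟩
      calc q * x * F.t * (q * x)⁻¹ = q * (x * F.t * x⁻¹) * q⁻¹ := by group
        _ = _ := by rw [ex, HE_cjm, e1, conj_eq_of_mem_centralizer (s.le (P1P hq)) (XY m)]; group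
    obtain ⟨x1, hx1, a1⟩ : ∃ x ∈ F.X1, d' * F.t * d'⁻¹ = F.t * (g * v * x) := by
      refine ⟨F.v1 * ((F.t * g * v * F.v1)⁻¹ * (d' * F.t * d'⁻¹)),
        mul_mem (subset_closure (by simp)) (F.F0X1 (hd' ▸ b.d't)), by group⟩
    obtain ⟨x2, hx2, a2⟩ : ∃ x ∈ F.X1, e * F.t * e⁻¹ = F.t * (d * v * x) := by
      refine ⟨θ * x1 * θ⁻¹, ?_, ?_⟩
      · refine Ct _ (conj_mem_of_mem_normalizer θN (UP (YU (XY hx1)))) ?_
        have c : x1 * F.t = F.t * x1 := comm_of_sq (fun _ m => F.sqW1 m) (F.X1W1 hx1) tW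
        calc θ * x1 * θ⁻¹ * F.t = θ * (x1 * F.t) * θ⁻¹ := by rw [HE_cjm, θt]
          _ = _ := by rw [c, HE_cjm, θt]
      · calc e * F.t * e⁻¹ = θ * (d' * (θ⁻¹ * (θ * F.t * θ⁻¹) * θ) * d'⁻¹) * θ⁻¹ := by rw [θt, he]; group
          _ = θ * (d' * F.t * d'⁻¹) * θ⁻¹ := by group
          _ = _ := by rw [a1, HE_cjm, HE_cjm, HE_cjm, θt, θg, θv]
    obtain ⟨y3, hy3, a3⟩ : ∃ y ∈ F.Y v, d' * e * F.t * (d' * e)⁻¹ = F.t * (g * d * y) := by
      have m := HE_comm s.le sq d'P (UP dU)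
      have y1 : v * x1 * (d' * d * d'⁻¹ * d⁻¹) ∈ F.Y v := mul_mem (mul_mem vY (XY hx1)) m
      have y2 : v * x2 ∈ F.Y v := mul_mem vY (XY hx2)
      refine ⟨_, mul_mem y1 y2, ?_⟩
      have c1 := mem_centralizer_iff_commute.1 b.CY.2.1 _ y1
      calc d' * e * F.t * (d' * e)⁻¹ = d' * (e * F.t * e⁻¹) * d'⁻¹ := by group
        _ = (d' * F.t * d'⁻¹) * (d' * d * d'⁻¹) * (d' * (v * x2) * d'⁻¹) := by rw [a2]; group
        _ = F.t * g * (v * x1 * (d' * d * d'⁻¹ * d⁻¹) * d) * (v * x2) := by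
          rw [a1, conj_eq_of_mem_centralizer (s.le d'P) y2]; group
        _ = _ := by rw [c1]; group
    have a4 : (g * d * v)⁻¹ * (g * d * y3) ∈ F.X1 := by
      have sq3 := cjsq F.tt (d' * e)
      rw [a3] at sq3
      rcases b.invU1 (mul_mem (mul_mem gU dU) (YU hy3)) sq3 with m | m | m | m
      · have := mul_mem (XY m) (inv_mem hy3)
        rw [mul_inv_cancel_right] at this
        have := (b.indU1 (i := 1) (j := 1) (by simpa using this)).1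
        simp at this
      · have := mul_mem (mul_mem vY (XY m)) (inv_mem hy3)
        rw [show v * ((g * v)⁻¹ * (g * d * y3)) * y3⁻¹ = d by group] at this
        have := (b.indU1 (i := 0) (j := 1) (by simpa using this)).2
        simp at this
      · have := mul_mem (mul_mem vY (XY m)) (inv_mem hy3)
        have := conj_mem_of_mem_normalizer (centralizer_le_normalizer _ b.CY.2.1) this
        rw [show d * (v * ((d * v)⁻¹ * (g * d * y3)) * y3⁻¹) * d⁻¹ = g by group] at this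
        have := (b.indU1 (i := 1) (j := 0) (by simpa using this)).1
        simp at this
      · exact m
    intro p hp
    obtain ⟨c, hc, ec⟩ := b.HE_tp s sq UP tN hp
    obtain ⟨q, hq, eq⟩ : ∃ q ∈ P1, q * F.t * q⁻¹ = F.t * c := by
      have sq3 := cjsq F.tt p
      rw [ec] at sq3
      rcases b.invU1 hc sq3 with m | m | m | m
      · exact mv (a := 1) (c := 1) (one_mem _) (by simp) (by simp) (by simpa using m)
      · exact mv d'1 a1 (by rwa [inv_mul_cancel_left]) m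
      · exact mv e1 a2 (by rwa [inv_mul_cancel_left]) m
      · exact mv (mul_mem d'1 e1) a3 a4 m
    have : q⁻¹ * p ∈ F.X1 := by
      refine Ct _ (mul_mem (inv_mem (P1P hq)) hp) ?_
      calc q⁻¹ * p * F.t = q⁻¹ * (p * F.t * p⁻¹) * p := by group
        _ = _ := by rw [ec, ← eq]; group
    have e : p = q * (q⁻¹ * p) := by group
    rw [e]
    exact mul_mem hq (U1P (YU (XY this)))
  · have : η⁻¹ * θ ∈ 𝐂(Q) := by
      rw [hθ, ← mul_assoc]
      exact conj_mem_of_mem_normalizer' (normalizer_le_normalizer_centralizer _ ηQ) oQ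
    refine centralizer_anti ?_ this
    rw [closure_le]
    rintro x (rfl | rfl | rfl | rfl | rfl | rfl | rfl)
    · exact tQ
    all_goals exact UQ (subset_closure (by simp))
  · rw [he, hd']
    exact F.En.conj_mem _ (F.En.conj_mem _ b.tr.dE _) _

end Fr

end H60M.A7
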